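import Cfsg.Agent.Lib.Golay.Code
import Cfsg.Agent.Lib.Golay.Perm
import Cfsg.Agent.Lib.CoZeroStd.OrbitData

/-!
The code in twelve coordinates: weights, pairings with functionals and orbit trees.
-/

set_option autoImplicit false
set_option maxRecDepth 10000

namespace CfsgLib.CoZeroStd

open CfsgLib.Golay

/-- the sum of two coordinate vectors -/
def xr (a b : Fin 4096) : Fin 4096 := ⟨a.1 ^^^ b.1, Nat.xor_lt_two_pow (n := 12) a.2 b.2⟩

/-- the all-ones word -/
def om : Fin 4096 := 4095

/-- the functional of the last point -/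
def ff : Fin 4096 := 3189

/-- the weight of a word -/
def W (x : Fin 4096) : ℕ := pop 24 (comb rows x.1)

/-- the values of a functional on the basis -/
def bits (f : ℕ) : List ℕ := (List.range 12).map fun i => if f.testBit i then 1 else 0

/-- the pairing -/
def dt (f x : ℕ) : ℕ := comb (bits f) x

theorem dt_xor (f x y : ℕ) : dt f (x ^^^ y) = dt f x ^^^ dt f y := comb_xor _ x y

theorem comb_unique : ∀ (n : ℕ) (φ : ℕ → ℕ), φ 0 = 0 →
    (∀ x y, x < 2 ^ n → y < 2 ^ n → φ (x ^^^ y) = φ x ^^^ φ y) →
    ∀ x, x < 2 ^ n → φ x = comb ((List.range n).map fun i => φ (2 ^ i)) x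
  | 0, φ, h0, _, x, hx => by
    obtain rfl : x = 0 := by simpa using hx
    simp [comb, h0]
  | n + 1, φ, h0, hl, x, hx => by
    have hd : x / 2 < 2 ^ n := by rw [pow_succ] at hx; omega
    have e : x = (2 * (x / 2)) ^^^ (x % 2) := by
      apply Nat.eq_of_testBit_eq; intro i
      rw [Nat.testBit_xor]
      cases i with
      | zero => simp [Nat.testBit_zero]
      | succ i =>
        simp only [Nat.testBit_succ]
        rw [show 2 * (x / 2) / 2 = x / 2 by omega, show x % 2 / 2 = 0 by omega]
        simp
    have hx2 : x % 2 < 2 ^ (n + 1) := lt_of_lt_of_le (Nat.mod_lt x (by norm_num))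
      (by rw [pow_succ]; have := Nat.one_le_two_pow (n := n); omega)
    have h2 : ∀ y, y < 2 ^ n → 2 * y < 2 ^ (n + 1) := fun y hy => by rw [pow_succ]; omega
    have ih := comb_unique n (fun y => φ (2 * y)) (by simpa using h0) (fun a b ha hb => by
      show φ (2 * (a ^^^ b)) = _
      rw [show 2 * (a ^^^ b) = 2 * a ^^^ 2 * b by
        apply Nat.eq_of_testBit_eq; intro i
        cases i with
        | zero => simp [Nat.testBit_zero]
        | succ i =>
          rw [Nat.testBit_succ, Nat.testBit_succ, Nat.xor_div_two,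
            Nat.mul_div_cancel_left _ (by norm_num : 0 < 2), Nat.mul_div_cancel_left _ (by norm_num : 0 < 2),
            Nat.mul_div_cancel_left _ (by norm_num : 0 < 2)]]
      exact hl _ _ (h2 a ha) (h2 b hb)) (x / 2) hd
    rw [List.range_succ_eq_map, List.map_cons, List.map_map, comb]
    conv_lhs => rw [e, hl _ _ (h2 _ hd) hx2, ih]
    rw [Nat.xor_comm]
    congr 1
    · rcases Nat.mod_two_eq_zero_or_one x with h | h <;> simp [h, h0]
    · congr 1
      refine List.map_congr_left fun i _ => ?_
      show φ (2 * 2 ^ i) = φ (2 ^ (i + 1))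
      rw [pow_succ']

theorem comb_two_pow : ∀ (l : List ℕ) (p : ℕ), comb l (2 ^ p) = l.getD p 0
  | [], p => by simp [comb]
  | r :: rs, 0 => by
    have h : ∀ l : List ℕ, comb l 0 = 0 := fun l => by
      induction l with
      | nil => rfl
      | cons a as ih => simp [comb, ih]
    simp [comb, h]
  | r :: rs, p + 1 => by
    rw [comb, pow_succ', Nat.mul_div_cancel_left _ (by norm_num : 0 < 2), Nat.mul_mod_right,
      comb_two_pow rs p, List.getD_cons_succ]
    simp

theorem dt_pow (f p : ℕ) (hp : p < 12) : dt f (2 ^ p) = if f.testBit p then 1 else 0 := by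
  rw [dt, comb_two_pow, bits, List.getD_eq_getElem?_getD, List.getElem?_map,
    List.getElem?_range hp]
  rfl

theorem comb_bits_xor (f g : ℕ) : ∀ (L : List ℕ) (x : ℕ),
    comb (L.map fun i => if (f ^^^ g).testBit i then 1 else 0) x =
      comb (L.map fun i => if f.testBit i then 1 else 0) x ^^^
        comb (L.map fun i => if g.testBit i then 1 else 0) x
  | [], x => by simp [comb]
  | i :: is, x => by
    rw [List.map_cons, List.map_cons, List.map_cons, comb, comb, comb, comb_bits_xor f g is]
    simp only [Nat.testBit_xor]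
    cases f.testBit i <;> cases g.testBit i <;> by_cases hx : x % 2 = 1 <;>
      simp [hx, Nat.xor_assoc, Nat.xor_comm, Nat.xor_left_comm]

theorem dt_xor_left (f g x : ℕ) : dt (f ^^^ g) x = dt f x ^^^ dt g x := comb_bits_xor f g _ x

theorem testBit_foldr (b : Fin 12 → Bool) : ∀ (L : List (Fin 12)) (i : Fin 12),
    Nat.testBit (L.foldr (fun j a => if b j then a ||| 2 ^ j.1 else a) 0) i.1 = (decide (i ∈ L) && b i)
  | [], i => by simp
  | j :: js, i => by
    rw [List.foldr_cons]
    by_cases h : i = j
    · subst h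
      cases hb : b i <;> simp [hb, testBit_foldr b js i, Nat.testBit_or]
    · have h' : ¬ j.1 = i.1 := fun e => h (Fin.ext e.symm)
      cases b j <;> simp [h, h', testBit_foldr b js i, Nat.testBit_or, Nat.testBit_two_pow]

theorem foldr_bits_lt (b : Fin 12 → Bool) : ∀ L : List (Fin 12),
    L.foldr (fun j a => if b j then a ||| 2 ^ j.1 else a) 0 < 4096
  | [] => by simp
  | j :: js => by
    rw [List.foldr_cons]
    split_ifs
    · exact Nat.or_lt_two_pow (n := 12) (foldr_bits_lt b js) (Nat.pow_lt_pow_right (by norm_num) j.2)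
    · exact foldr_bits_lt b js

/-- membership test for a bit mask -/
def treeAcc (M : List (List ℕ)) : List ℕ → ℕ → Option ℕ
  | [], acc => some acc
  | e :: es, acc =>
    if acc.testBit (e / 16384) && decide (e / 4096 % 4 < M.length) && (comb (M.getD (e / 4096 % 4) []) (e / 16384) == e % 4096) then
      treeAcc M es (acc ||| 2 ^ (e % 4096))
    else none

theorem treeAcc_sound (M : List (List ℕ)) (r : Prop) (s : ℕ → Prop)
    (hs : ∀ k, k < M.length → ∀ x, x < 4096 → (s (comb (M.getD k []) x) ↔ s x)) :
    ∀ (es : List ℕ) (acc res : ℕ), (∀ x, acc.testBit x = true → x < 4096 ∧ (s x ↔ r)) →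
      treeAcc M es acc = some res → ∀ x, res.testBit x = true → x < 4096 ∧ (s x ↔ r)
  | [], acc, res, ha, h, x, hx => by
    simp only [treeAcc, Option.some.injEq] at h
    exact ha x (h ▸ hx)
  | e :: es, acc, res, ha, h, x, hx => by
    simp only [treeAcc] at h
    split_ifs at h with hc
    rw [Bool.and_eq_true, Bool.and_eq_true, beq_iff_eq, decide_eq_true_eq] at hc
    refine treeAcc_sound M r s hs es _ res (fun y hy => ?_) h x hx
    rw [Nat.testBit_or, Bool.or_eq_true] at hy
    rcases hy with hy | hy
    · exact ha y hy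
    · rw [Nat.testBit_two_pow, decide_eq_true_eq] at hy
      obtain ⟨h1, h2⟩ := ha _ hc.1.1
      refine ⟨hy ▸ Nat.mod_lt _ (by norm_num), ?_⟩
      rw [← hy, ← hc.2, hs _ hc.1.2 _ h1, h2]

/-- the tree covers exactly the mask -/
def treeOK (M : List (List ℕ)) (root : ℕ) (es : List ℕ) (mask : ℕ) : Bool :=
  decide (root < 4096) && treeAcc M es (2 ^ root) == some mask

theorem tree_spec {M : List (List ℕ)} {root mask : ℕ} {es : List ℕ} (h : treeOK M root es mask = true)
    (s : ℕ → Prop) (hs : ∀ k, k < M.length → ∀ x, x < 4096 → (s (comb (M.getD k []) x) ↔ s x))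
    (x : ℕ) (hx : mask.testBit x = true) : s x ↔ s root := by
  rw [treeOK, Bool.and_eq_true, decide_eq_true_eq, beq_iff_eq] at h
  refine (treeAcc_sound M (s root) s hs es _ mask (fun y hy => ?_) h.2 x hx).2
  rw [Nat.testBit_two_pow, decide_eq_true_eq] at hy
  exact hy ▸ ⟨h.1, Iff.rfl⟩

/-- the mask of the coordinate vectors with a property -/
def maskOf (p : ℕ → Bool) : ℕ := (List.range 4096).foldl (fun a x => if p x then a ||| 2 ^ x else a) 0

theorem testBit_maskOf (p : ℕ → Bool) (x : ℕ) (hx : x < 4096) : (maskOf p).testBit x = p x := by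
  have key : ∀ (l : List ℕ) (a : ℕ),
      (l.foldl (fun a x => if p x then a ||| 2 ^ x else a) a).testBit x =
        (a.testBit x || (decide (x ∈ l) && p x)) := by
    intro l
    induction l with
    | nil => intro a; simp
    | cons y ys ih =>
      intro a
      rw [List.foldl_cons, ih]
      by_cases hy : x = y
      · subst hy
        cases hp : p x <;> simp [hp, Nat.testBit_or, Nat.testBit_two_pow]
      · have hy' : ¬ y = x := fun e => hy e.symm
        cases p y <;> simp [hy, hy', Nat.testBit_or, Nat.testBit_two_pow]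
  rw [maskOf, key]
  simp [List.mem_range.2 hx]

end CfsgLib.CoZeroStd
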