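import Cfsg.Agent.Lib.CoZeroStd.CodeBasic

/-!
Kernel checks on the orbit trees and the counts of pairings.
-/

set_option autoImplicit false
set_option maxRecDepth 100000
set_option Elab.async false

namespace CfsgLib.CoZeroStd

open CfsgLib.Golay

/-- the words of a weight -/
def wmask (w : ℕ) : ℕ := maskOf fun x => pop 24 (comb rows x) == w

/-- the words of a weight meeting the functional -/
def smask (w : ℕ) : ℕ := maskOf fun x => pop 24 (comb rows x) == w && dt 3189 x == 1

/-- the tree of a weight -/
def tree (w : ℕ) : List ℕ := if w = 8 then tree8 else if w = 12 then tree12 else tree16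

/-- the tree of a weight inside the hyperplane complement -/
def sub (w : ℕ) : List ℕ := if w = 8 then sub8 else if w = 12 then sub12 else sub16

/-- the representative of a weight -/
def rep (w : ℕ) : ℕ := reps.getD (w / 4 - 2) 0

/-- the four classes of functionals -/
def dmask : ℕ → ℕ
  | 0 => (treeAcc gensD dtree0 (2 ^ dreps.getD 0 0)).getD 0
  | 1 => (treeAcc gensD dtree1 (2 ^ dreps.getD 1 0)).getD 0
  | 2 => (treeAcc gensD dtree2 (2 ^ dreps.getD 2 0)).getD 0
  | _ => (treeAcc gensD dtree3 (2 ^ dreps.getD 3 0)).getD 0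

/-- the tree of a class of functionals -/
def dtree : ℕ → List ℕ
  | 0 => dtree0
  | 1 => dtree1
  | 2 => dtree2
  | _ => dtree3

theorem weight_trees :
    treeOK gensC (rep 8) (tree 8) (wmask 8) = true ∧ treeOK gensC (rep 12) (tree 12) (wmask 12) = true ∧
    treeOK gensC (rep 16) (tree 16) (wmask 16) = true := by decide +kernel

theorem sub_trees :
    treeOK (gensC.take 2) (rep 8) (sub 8) (smask 8) = true ∧
    treeOK (gensC.take 2) (rep 12) (sub 12) (smask 12) = true ∧
    treeOK (gensC.take 2) (rep 16) (sub 16) (smask 16) = true := by decide +kernel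

theorem dual_trees : ∀ i : Fin 4, treeOK gensD (dreps.getD i.1 0) (dtree i.1) (dmask i.1) = true := by
  decide +kernel

theorem dual_cover : dmask 0 ||| dmask 1 ||| dmask 2 ||| dmask 3 ||| 1 = 2 ^ 4096 - 1 := by decide +kernel

theorem odd_cover : (maskOf fun f => dt f 4095 == 1) = dmask 0 ||| dmask 2 := by decide +kernel

theorem weight_cover : wmask 8 ||| wmask 12 ||| wmask 16 ||| 2 ^ 4095 ||| 1 = 2 ^ 4096 - 1 := by
  decide +kernel

theorem bilin_basis : ∀ k : Fin 3, ∀ a : Fin 12, ∀ i : Fin 12,
    dt (comb (gensD.getD k.1 []) (2 ^ a.1)) (comb (gensC.getD k.1 []) (2 ^ i.1)) =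
      dt (2 ^ a.1) (2 ^ i.1) := by
  decide +kernel

theorem bilin_gen (k : Fin 3) (f : Fin 4096) (i : Fin 12) :
    dt (comb (gensD.getD k.1 []) f.1) (comb (gensC.getD k.1 []) (2 ^ i.1)) = dt f.1 (2 ^ i.1) := by
  have hz : ∀ l : List ℕ, comb l 0 = 0 := fun l => by
    have := comb_xor l 0 0; simpa using this
  have hd : ∀ x, dt 0 x = 0 := fun x => by
    have := dt_xor_left 0 0 x; simpa using this
  rw [comb_unique 12 (fun f => dt (comb (gensD.getD k.1 []) f) (comb (gensC.getD k.1 []) (2 ^ i.1)))
      (by simp only [hz, hd]) (fun a b _ _ => by simp only [comb_xor, dt_xor_left]) f.1 f.2,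
    comb_unique 12 (fun f => dt f (2 ^ i.1)) (hd _) (fun a b _ _ => dt_xor_left a b _) f.1 f.2]
  exact congrArg (fun l => comb l f.1)
    (List.map_congr_left fun a ha => bilin_basis k ⟨a, List.mem_range.1 ha⟩ i)

theorem gens_bounds : (∀ k : Fin 3, (gensC.getD k.1 []).all (· < 4096) = true ∧
    (gensD.getD k.1 []).all (· < 4096) = true ∧ (gensC.getD k.1 []).length = 12 ∧
    comb (gensC.getD k.1 []) 4095 = 4095) ∧
    (∀ k : Fin 2, comb (gensD.getD k.1 []) 3189 = 3189) ∧
    gensC.length = 3 ∧ gensD.length = 3 ∧ dt 3189 4095 = 1 ∧ dreps.getD 0 0 = 3189 := by decide +kernel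

/-- the pairing count of one word with one class -/
def cnt (i x : ℕ) : ℕ := (List.range 4096).countP fun f => (dmask i).testBit f && dt f x == 1

/-- sizes of classes -/
def dsize (i : ℕ) : ℕ := (List.range 4096).countP fun f => (dmask i).testBit f

theorem cnt_table : (List.range 4).map dsize = [24, 276, 2024, 1771] ∧
    (List.range 4).map (fun i => cnt i 4095) = [24, 0, 2024, 0] ∧
    (List.range 4).map (fun i => cnt i (rep 8)) = [8, 128, 1016, 896] ∧
    (List.range 4).map (fun i => cnt i (rep 12)) = [12, 144, 1012, 880] ∧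
    (List.range 4).map (fun i => cnt i (rep 16)) = [16, 128, 1008, 896] := by decide +kernel

theorem wsize : ((List.range 4096).countP fun x => (wmask 8).testBit x) = 759 ∧
    ((List.range 4096).countP fun x => (wmask 12).testBit x) = 2576 ∧
    ((List.range 4096).countP fun x => (wmask 16).testBit x) = 759 ∧
    ((List.range 4096).countP fun x => (smask 8).testBit x) = 253 ∧
    ((List.range 4096).countP fun x => (smask 12).testBit x) = 1288 ∧
    ((List.range 4096).countP fun x => (smask 16).testBit x) = 506 := by decide +kernel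

/-- octads on which a functional is one -/
def prof (f : ℕ) : ℕ := (List.range 4096).countP fun x => pop 24 (comb rows x) == 8 && dt f x == 1

theorem prof_table : prof 3189 = 253 ∧ prof (dreps.getD 2 0) = 381 := by decide +kernel

theorem pack_ok : (∀ b : Fin 12 → Bool, ∀ i : Fin 12,
      Nat.testBit ((List.finRange 12).foldr (fun j a => if b j then a ||| 2 ^ j.1 else a) 0) i.1 = b i) ∧
    (∀ f : Fin 4096, (List.finRange 12).foldr
      (fun j a => if dt f.1 (2 ^ j.1) == 1 then a ||| 2 ^ j.1 else a) 0 = f.1) := by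
  have h1 : ∀ b : Fin 12 → Bool, ∀ i : Fin 12,
      Nat.testBit ((List.finRange 12).foldr (fun j a => if b j then a ||| 2 ^ j.1 else a) 0) i.1 = b i :=
    fun b i => by rw [testBit_foldr, decide_eq_true (List.mem_finRange i), Bool.true_and]
  refine ⟨h1, fun f => Nat.eq_of_testBit_eq fun n => ?_⟩
  by_cases hn : n < 12
  · rw [h1 (fun j => dt f.1 (2 ^ j.1) == 1) ⟨n, hn⟩, dt_pow _ _ hn]
    cases h : f.1.testBit n <;> simp
  · rw [Nat.testBit_lt_two_pow, Nat.testBit_lt_two_pow]
    · exact lt_of_lt_of_le f.2 (Nat.pow_le_pow_right (by norm_num) (Nat.le_of_not_lt hn) |>.trans' (by norm_num))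
    · exact lt_of_lt_of_le (foldr_bits_lt _ _)
        (Nat.pow_le_pow_right (by norm_num) (Nat.le_of_not_lt hn) |>.trans' (by norm_num))

end CfsgLib.CoZeroStd
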