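import Cfsg.Agent.Lib.CoZeroStd.CodeChecks

/-!
A group of linear maps of the code which contains the three generators and whose stabilizer of the
all-ones word preserves weights fixes the all-ones word: the functionals are one orbit and the flags
of the all-ones word and a functional of a point cannot be balanced.
-/

set_option autoImplicit false
set_option maxRecDepth 100000
set_option linter.unusedSectionVars false

namespace CfsgLib.CoZeroStd

open CfsgLib.Golay

theorem dt_zero (f : ℕ) : dt f 0 = 0 := by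
  have h := dt_xor f 0 0
  simpa using h

theorem comb_lt (n : ℕ) : ∀ (l : List ℕ), (∀ r ∈ l, r < 2 ^ n) → ∀ x, comb l x < 2 ^ n
  | [], _, _ => by simp [comb]
  | r :: rs, h, x => by
    rw [comb]
    refine Nat.xor_lt_two_pow ?_ (comb_lt n rs (fun a ha => h a (List.mem_cons_of_mem _ ha)) _)
    split_ifs
    · exact h r List.mem_cons_self
    · exact Nat.two_pow_pos n

theorem dt_lt (f x : ℕ) : dt f x < 2 ^ 1 :=
  comb_lt 1 _ (fun r hr => by
    obtain ⟨i, -, rfl⟩ := List.mem_map.1 hr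
    split_ifs <;> norm_num) x

/-- the functional with given values on the basis -/
def pk (b : Fin 12 → Bool) : ℕ :=
  (List.finRange 12).foldr (fun j a => if b j then a ||| 2 ^ j.1 else a) 0

theorem pk_lt (b : Fin 12 → Bool) : pk b < 4096 := by
  exact foldr_bits_lt b _

theorem comb_ext {f f' : Fin 4096} (h : ∀ i : Fin 12, dt f.1 (2 ^ i.1) = dt f'.1 (2 ^ i.1)) :
    f = f' := by
  apply Fin.ext
  rw [← pack_ok.2 f, ← pack_ok.2 f']
  simp only [h]

theorem xor_zero_fix (φ : Fin 4096 → Fin 4096) (hφ : ∀ x y, φ (xr x y) = xr (φ x) (φ y)) : φ 0 = 0 := by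
  have h := hφ 0 0
  have e : xr (0 : Fin 4096) 0 = 0 := rfl
  rw [e] at h
  rw [h]
  exact Fin.ext (Nat.xor_self _)

section

variable {H : Type*} [Group H] [MulAction H (Fin 4096)]
  (hlin : ∀ (g : H) (x y : Fin 4096), g • xr x y = xr (g • x) (g • y))

/-- the transported functional -/
def dg (g : H) (f : Fin 4096) : Fin 4096 :=
  ⟨pk fun i => dt f.1 (g⁻¹ • (⟨2 ^ i.1, Nat.pow_lt_pow_right (by norm_num) i.2⟩ : Fin 4096)).1 == 1,
    pk_lt _⟩

include hlin

theorem dt_dg (g : H) (f x : Fin 4096) : dt (dg g f).1 x.1 = dt f.1 (g⁻¹ • x).1 := by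
  let φ : ℕ → ℕ := fun n => if h : n < 4096 then dt f.1 (g⁻¹ • (⟨n, h⟩ : Fin 4096)).1 else 0
  have h0 : φ 0 = 0 := by
    simp only [φ, dif_pos (show (0 : ℕ) < 4096 by norm_num)]
    rw [show (⟨0, by norm_num⟩ : Fin 4096) = 0 from rfl, xor_zero_fix _ (hlin g⁻¹)]
    exact dt_zero _
  have hl : ∀ a b, a < 2 ^ 12 → b < 2 ^ 12 → φ (a ^^^ b) = φ a ^^^ φ b := by
    intro a b ha hb
    have hab : a ^^^ b < 4096 := Nat.xor_lt_two_pow (n := 12) ha hb
    simp only [φ, dif_pos hab, dif_pos (show a < 4096 from ha), dif_pos (show b < 4096 from hb)]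
    rw [← dt_xor, show (⟨a ^^^ b, hab⟩ : Fin 4096) = xr ⟨a, ha⟩ ⟨b, hb⟩ from rfl, hlin]
    rfl
  have e1 := comb_unique 12 φ h0 hl x.1 x.2
  have e2 : φ x.1 = dt f.1 (g⁻¹ • x).1 := by simp [φ, x.2]
  rw [← e2, e1, dt]
  congr 1
  refine List.map_congr_left fun i hi => ?_
  rw [List.mem_range] at hi
  have hp : 2 ^ i < 4096 := Nat.pow_lt_pow_right (a := 2) (n := 12) (by norm_num) hi
  have h := pack_ok.1 (fun i => dt f.1 (g⁻¹ •
    (⟨2 ^ i.1, Nat.pow_lt_pow_right (by norm_num) i.2⟩ : Fin 4096)).1 == 1) ⟨i, hi⟩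
  show (if (dg g f).1.testBit i then 1 else 0) = φ (2 ^ i)
  rw [show (dg g f).1.testBit i = _ from h]
  simp only [φ, dif_pos hp]
  have hlt := dt_lt f.1 (g⁻¹ • (⟨2 ^ i, hp⟩ : Fin 4096)).1
  generalize dt f.1 (g⁻¹ • (⟨2 ^ i, hp⟩ : Fin 4096)).1 = d at hlt ⊢
  interval_cases d <;> simp

theorem dg_one (f : Fin 4096) : dg (1 : H) f = f :=
  comb_ext fun i => by
    have := dt_dg hlin 1 f ⟨2 ^ i.1, Nat.pow_lt_pow_right (by norm_num) i.2⟩
    rwa [inv_one, one_smul] at this

theorem dg_mul (g h : H) (f : Fin 4096) : dg (g * h) f = dg g (dg h f) :=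
  comb_ext fun i => by
    have a := dt_dg hlin (g * h) f ⟨2 ^ i.1, Nat.pow_lt_pow_right (by norm_num) i.2⟩
    have b := dt_dg hlin g (dg h f) ⟨2 ^ i.1, Nat.pow_lt_pow_right (by norm_num) i.2⟩
    rw [a, b, dt_dg hlin, mul_inv_rev, mul_smul]

theorem dg_inv_dg (g : H) (f : Fin 4096) : dg g⁻¹ (dg g f) = f := by
  rw [← dg_mul hlin, inv_mul_cancel, dg_one hlin]

theorem dg_injective (g : H) : Function.Injective (dg g) := fun a b h => by
  rw [← dg_inv_dg hlin g a, h, dg_inv_dg hlin]

theorem dt_dg_smul (g : H) (f x : Fin 4096) : dt (dg g f).1 (g • x).1 = dt f.1 x.1 := by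
  rw [dt_dg hlin, inv_smul_smul]

variable (hgen : ∀ k : Fin 3, ∃ g : H, ∀ x : Fin 4096, (g • x).1 = comb (gensC.getD k.1 []) x.1)
include hgen

theorem gen_dual (k : Fin 3) : ∃ g : H, (∀ x : Fin 4096, (g • x).1 = comb (gensC.getD k.1 []) x.1) ∧
    ∀ f : Fin 4096, (dg g f).1 = comb (gensD.getD k.1 []) f.1 := by
  obtain ⟨g, hg⟩ := hgen k
  refine ⟨g, hg, fun f => ?_⟩
  have hb : comb (gensD.getD k.1 []) f.1 < 4096 := comb_lt 12 _ (fun r hr => by
    simpa using List.all_eq_true.1 (gens_bounds.1 k).2.1 r hr) _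
  set f' : Fin 4096 := ⟨_, hb⟩ with hf'
  suffices dg g⁻¹ f' = f by
    have h2 : dg g f = f' := by
      rw [← this, ← dg_mul hlin, mul_inv_cancel, dg_one hlin]
    rw [h2]
  refine comb_ext fun i => ?_
  have := dt_dg hlin g⁻¹ f' ⟨2 ^ i.1, Nat.pow_lt_pow_right (by norm_num) i.2⟩
  rw [inv_inv, hg] at this
  rw [this]
  exact bilin_gen k f i

/-- a set of words preserved by the group elements in `S` is constant on a tree -/
theorem mem_iff_of_tree {S : Finset (Fin 4096)} (n : ℕ) (hn : n ≤ 3) {root mask : ℕ} {es : List ℕ}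
    (h : treeOK (gensC.take n) root es mask = true) (hr : root < 4096)
    (hS : ∀ k : Fin 3, k.1 < n → ∀ g : H, (∀ x : Fin 4096, (g • x).1 = comb (gensC.getD k.1 []) x.1) →
      ∀ x, g • x ∈ S ↔ x ∈ S)
    (x : Fin 4096) (hx : mask.testBit x.1 = true) : x ∈ S ↔ (⟨root, hr⟩ : Fin 4096) ∈ S := by
  have hlen : (gensC.take n).length = n := by
    rw [List.length_take, gens_bounds.2.2.1]; omega
  have hs := tree_spec h (fun m => ∀ hm : m < 4096, (⟨m, hm⟩ : Fin 4096) ∈ S) (fun k hk m hm => by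
    rw [hlen] at hk
    have e : (gensC.take n).getD k [] = gensC.getD k [] := by
      rw [List.getD_eq_getElem?_getD, List.getD_eq_getElem?_getD, List.getElem?_take_of_lt hk]
    rw [e]
    obtain ⟨g, hg⟩ := hgen ⟨k, hk.trans_le hn⟩
    have eg : ∀ h', (⟨comb (gensC.getD k []) m, h'⟩ : Fin 4096) = g • (⟨m, hm⟩ : Fin 4096) :=
      fun h' => Fin.ext (hg ⟨m, hm⟩).symm
    constructor
    · intro hh _
      have h' : comb (gensC.getD k []) m < 4096 := by rw [← hg ⟨m, hm⟩]; exact Fin.isLt _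
      exact (hS ⟨k, hk.trans_le hn⟩ hk g hg _).1 (eg h' ▸ hh h')
    · intro hh h'
      rw [eg]
      exact (hS ⟨k, hk.trans_le hn⟩ hk g hg _).2 (hh hm)) x.1 hx
  exact ⟨fun hh => hs.1 (fun _ => hh) hr, fun hh => hs.2 (fun _ => hh) x.2⟩

/-- the same for sets of functionals -/
theorem mem_iff_of_dtree {S : Finset (Fin 4096)} (i : Fin 4) (hr : dreps.getD i.1 0 < 4096)
    (hS : ∀ g : H, (∀ x : Fin 4096, (g • x).1 = comb (gensC.getD 0 []) x.1) ∨
      (∀ x : Fin 4096, (g • x).1 = comb (gensC.getD 1 []) x.1) ∨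
      (∀ x : Fin 4096, (g • x).1 = comb (gensC.getD 2 []) x.1) → ∀ f, dg g f ∈ S ↔ f ∈ S)
    (f : Fin 4096) (hf : (dmask i.1).testBit f.1 = true) :
    f ∈ S ↔ (⟨dreps.getD i.1 0, hr⟩ : Fin 4096) ∈ S := by
  have hs := tree_spec (dual_trees i) (fun m => ∀ hm : m < 4096, (⟨m, hm⟩ : Fin 4096) ∈ S)
    (fun k hk m hm => by
      rw [gens_bounds.2.2.2.1] at hk
      obtain ⟨g, hg, hd⟩ := gen_dual hlin hgen ⟨k, hk⟩
      have hor : (∀ x : Fin 4096, (g • x).1 = comb (gensC.getD 0 []) x.1) ∨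
          (∀ x : Fin 4096, (g • x).1 = comb (gensC.getD 1 []) x.1) ∨
          (∀ x : Fin 4096, (g • x).1 = comb (gensC.getD 2 []) x.1) := by
        interval_cases k
        exacts [Or.inl hg, Or.inr (Or.inl hg), Or.inr (Or.inr hg)]
      have eg : ∀ h', (⟨comb (gensD.getD k []) m, h'⟩ : Fin 4096) = dg g (⟨m, hm⟩ : Fin 4096) :=
        fun h' => Fin.ext (hd ⟨m, hm⟩).symm
      constructor
      · intro hh _
        have h' : comb (gensD.getD k []) m < 4096 := by rw [← hd ⟨m, hm⟩]; exact Fin.isLt _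
        exact (hS g hor _).1 (eg h' ▸ hh h')
      · intro hh h'
        rw [eg]
        exact (hS g hor _).2 (hh hm)) f.1 hf
  exact ⟨fun hh => hs.1 (fun _ => hh) hr, fun hh => hs.2 (fun _ => hh) f.2⟩

end

/-! ### Counting -/

theorem mask_bit_one (x : ℕ) : Nat.testBit 1 x = decide (x = 0) := by
  rw [show (1 : ℕ) = 2 ^ 0 from rfl, Nat.testBit_two_pow]
  simp [eq_comm]

theorem card_filter_eq (q : ℕ → Bool) :
    (Finset.univ.filter fun f : Fin 4096 => q f.1 = true).card = (List.range 4096).countP q := by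
  have h : (Finset.univ.filter fun f : Fin 4096 => q f.1 = true).card =
      ((Finset.range 4096).filter fun m => q m = true).card :=
    Finset.card_bij (fun f _ => f.1)
      (fun f hf => Finset.mem_filter.2 ⟨Finset.mem_range.2 f.2, (Finset.mem_filter.1 hf).2⟩)
      (fun a _ b _ e => Fin.ext e) (fun m hm => by
        obtain ⟨h1, h2⟩ := Finset.mem_filter.1 hm
        exact ⟨⟨m, Finset.mem_range.1 h1⟩, by simpa using h2, rfl⟩)
  rw [h, List.countP_eq_length_filter, ← List.toFinset_card_of_nodup (List.nodup_range.filter _)]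
  refine congrArg Finset.card (Finset.ext fun m => ?_)
  simp

/-- a union of classes of functionals -/
def qD (b : ℕ → Bool) (m : ℕ) : Bool := (List.range 4).any fun i => b i && (dmask i).testBit m

theorem count_qD : ∀ b1 b2 b3 : Bool,
    (∀ x ∈ [rep 8, rep 12, rep 16],
      (List.range 4096).countP (fun f => qD (fun i => [true, b1, b2, b3].getD i false) f && dt f x == 1) =
      (List.range 4096).countP (fun f => qD (fun i => [true, b1, b2, b3].getD i false) f && dt f 4095 == 1) →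
      b1 = true ∧ b2 = true ∧ b3 = true) := by
  decide +kernel

theorem count_all : (List.range 4096).countP (qD fun i => [true, true, true, true].getD i false) = 4095 := by
  decide +kernel

/-- a union of classes of words -/
def qW (b8 b12 b16 : Bool) (m : ℕ) : Bool :=
  m == 4095 || (b8 && (wmask 8).testBit m) || (b12 && (wmask 12).testBit m) ||
    (b16 && (wmask 16).testBit m)

theorem count_qW : ∀ b8 b12 b16 : Bool, (List.range 4096).countP (qW b8 b12 b16) =
    1 + (if b8 then 759 else 0) + (if b12 then 2576 else 0) + (if b16 then 759 else 0) := by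
  decide +kernel

theorem rep_bounds : rep 8 < 4096 ∧ rep 12 < 4096 ∧ rep 16 < 4096 ∧ (∀ i : Fin 4, dreps.getD i.1 0 < 4096) := by
  decide +kernel

attribute [local irreducible] dmask wmask smask maskOf prof tree sub rep treeAcc treeOK qD dtree

theorem rep_facts : rep 8 < 4096 ∧ rep 12 < 4096 ∧ rep 16 < 4096 ∧ (∀ i : Fin 4, dreps.getD i.1 0 < 4096) ∧
    (∀ f : Fin 4096, f.1 = 0 ∨ (dmask 0).testBit f.1 = true ∨ (dmask 1).testBit f.1 = true ∨
      (dmask 2).testBit f.1 = true ∨ (dmask 3).testBit f.1 = true) ∧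
    (∀ f : Fin 4096, dt f.1 4095 = 1 → (dmask 0).testBit f.1 = true ∨ (dmask 2).testBit f.1 = true) ∧
    (∀ x : Fin 4096, x.1 = 0 ∨ x.1 = 4095 ∨ (wmask 8).testBit x.1 = true ∨ (wmask 12).testBit x.1 = true ∨
      (wmask 16).testBit x.1 = true) ∧
    (∀ x : Fin 4096, dt 3189 x.1 = 1 → x.1 = 4095 ∨ (smask 8).testBit x.1 = true ∨
      (smask 12).testBit x.1 = true ∨ (smask 16).testBit x.1 = true) := by
  obtain ⟨a, b, c, d⟩ := rep_bounds
  have hw : ∀ x : Fin 4096, x.1 = 0 ∨ x.1 = 4095 ∨ (wmask 8).testBit x.1 = true ∨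
      (wmask 12).testBit x.1 = true ∨ (wmask 16).testBit x.1 = true := fun x => by
    have h := congrArg (fun m => Nat.testBit m x.1) weight_cover
    simp only [Nat.testBit_or, Nat.testBit_two_pow, Nat.testBit_two_pow_sub_one, mask_bit_one,
      Bool.or_eq_true, decide_eq_true_eq, x.2, decide_true, eq_iff_iff, iff_true] at h
    rcases h with (((h | h) | h) | h) | h <;> simp_all
  refine ⟨a, b, c, d, fun f => ?_, fun f hf => ?_, hw, fun x hx => ?_⟩
  · have h := congrArg (fun m => Nat.testBit m f.1) dual_cover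
    clear hw
    simp only [Nat.testBit_or, Nat.testBit_two_pow_sub_one, mask_bit_one,
      Bool.or_eq_true, f.2, decide_true, eq_iff_iff, iff_true] at h
    rcases h with (((h | h) | h) | h) | h <;> simp_all
  · have h := congrArg (fun m => Nat.testBit m f.1) odd_cover
    simp only [testBit_maskOf _ _ f.2, hf, beq_self_eq_true, Nat.testBit_or] at h
    simpa using h.symm
  · rcases hw x with h | h | h | h | h
    · rw [h, dt_zero] at hx; omega
    · exact Or.inl h
    all_goals
      rw [wmask, testBit_maskOf _ _ x.2] at h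
    · exact Or.inr (Or.inl (by rw [smask, testBit_maskOf _ _ x.2]; simp [h, hx]))
    · exact Or.inr (Or.inr (Or.inl (by rw [smask, testBit_maskOf _ _ x.2]; simp [h, hx])))
    · exact Or.inr (Or.inr (Or.inr (by rw [smask, testBit_maskOf _ _ x.2]; simp [h, hx])))

set_option maxHeartbeats 2000000 in
/-- the all-ones word is fixed -/
theorem omega_fixed {H : Type*} [Group H] [Finite H] [MulAction H (Fin 4096)]
    (hlin : ∀ (g : H) (x y : Fin 4096), g • xr x y = xr (g • x) (g • y))
    (hgen : ∀ k : Fin 3, ∃ g : H, ∀ x : Fin 4096, (g • x).1 = comb (gensC.getD k.1 []) x.1)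
    (hwt : ∀ g : H, g • om = om → ∀ x, W (g • x) = W x) (g₀ : H) : g₀ • om = om := by
  classical
  haveI := Fintype.ofFinite H
  obtain ⟨r8, r12, r16, rd, hdc, hodd, hwc, hsc⟩ := rep_facts
  obtain ⟨hgb, hff, -, -, hfo, hd00⟩ := gens_bounds
  have homv : (om : Fin 4096).1 = 4095 := rfl
  have hffv : (ff : Fin 4096).1 = 3189 := rfl
  have hsm0 : ∀ g : H, g • (0 : Fin 4096) = 0 := fun g => xor_zero_fix _ (hlin g)
  have hgom : ∀ (k : Fin 3) (g : H), (∀ x : Fin 4096, (g • x).1 = comb (gensC.getD k.1 []) x.1) →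
      g • om = om := fun k g hg => Fin.ext (by rw [hg]; exact (hgb k).2.2.2)
  have hor3 : ∀ g : H, ((∀ x : Fin 4096, (g • x).1 = comb (gensC.getD 0 []) x.1) ∨
      (∀ x : Fin 4096, (g • x).1 = comb (gensC.getD 1 []) x.1) ∨
      (∀ x : Fin 4096, (g • x).1 = comb (gensC.getD 2 []) x.1)) → g • om = om := by
    rintro g (h | h | h)
    exacts [hgom 0 g h, hgom 1 g h, hgom 2 g h]
  let P : Finset (Fin 4096) := Finset.univ.image fun g : H => g • om
  let O : Finset (Fin 4096) := Finset.univ.image fun g : H => dg g ff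
  let Fl : Finset (Fin 4096 × Fin 4096) := Finset.univ.image fun g : H => (g • om, dg g ff)
  have hPinv : ∀ (h : H) x, h • x ∈ P ↔ x ∈ P := by
    intro h x
    simp only [P, Finset.mem_image, Finset.mem_univ, true_and]
    constructor
    · rintro ⟨g, hg⟩; exact ⟨h⁻¹ * g, by rw [mul_smul, hg, inv_smul_smul]⟩
    · rintro ⟨g, hg⟩; exact ⟨h * g, by rw [mul_smul, hg]⟩
  have hOinv : ∀ (h : H) f, dg h f ∈ O ↔ f ∈ O := by
    intro h f
    simp only [O, Finset.mem_image, Finset.mem_univ, true_and]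
    constructor
    · rintro ⟨g, hg⟩; exact ⟨h⁻¹ * g, by rw [dg_mul hlin, hg, dg_inv_dg hlin]⟩
    · rintro ⟨g, hg⟩; exact ⟨h * g, by rw [dg_mul hlin, hg]⟩
  have hffO : ff ∈ O := Finset.mem_image.2 ⟨1, Finset.mem_univ _, dg_one hlin ff⟩
  have homP : om ∈ P := Finset.mem_image.2 ⟨1, Finset.mem_univ _, one_smul _ _⟩
  have hF0 : ∀ f : Fin 4096, f.1 = 0 → f ∉ O := by
    intro f hf hO
    obtain ⟨g, -, hg⟩ := Finset.mem_image.1 hO
    have e := dt_dg_smul hlin g ff om
    have z : dt 0 (g • om).1 = 0 := by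
      rw [show (0 : ℕ) = (0 : Fin 4096).1 from rfl]
      exact (comb_unique 12 (fun _ => 0) rfl (fun _ _ _ _ => rfl) _ (Fin.isLt _)).symm.trans rfl |>.trans rfl
    rw [hg, hf, z, hffv, homv, hfo] at e
    omega
  have hF0' : ∀ x : Fin 4096, x.1 = 0 → x ∉ P := by
    intro x hx hP
    obtain ⟨g, -, hg⟩ := Finset.mem_image.1 hP
    have : x = 0 := Fin.ext hx
    rw [this] at hg
    have h2 := congrArg (fun y => (g⁻¹ • y).1) hg
    simp only [inv_smul_smul, hsm0, homv] at h2
    exact absurd h2 (by simp)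
  -- the functionals form one orbit
  let bD : ℕ → Bool := fun i => [true, decide ((⟨_, rd 1⟩ : Fin 4096) ∈ O), decide ((⟨_, rd 2⟩ : Fin 4096) ∈ O),
    decide ((⟨_, rd 3⟩ : Fin 4096) ∈ O)].getD i false
  have hrep0 : (⟨_, rd 0⟩ : Fin 4096) = ff := Fin.ext hd00
  have hOq : ∀ f : Fin 4096, f ∈ O ↔ qD bD f.1 = true := by
    intro f
    have hcl : ∀ i : Fin 4, (dmask i.1).testBit f.1 = true → (f ∈ O ↔ bD i.1 = true) := by
      intro i hi
      rw [mem_iff_of_dtree hlin hgen i (rd i) (fun g _ => hOinv g) f hi]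
      fin_cases i <;> simp [bD]
      exact hrep0 ▸ hffO
    constructor
    · intro hf
      rw [qD, List.any_eq_true]
      rcases hdc f with h | h | h | h | h
      · exact absurd hf (hF0 f h)
      · exact ⟨0, by simp, by rw [Bool.and_eq_true]; exact ⟨(hcl 0 h).1 hf, h⟩⟩
      · exact ⟨1, by simp, by rw [Bool.and_eq_true]; exact ⟨(hcl 1 h).1 hf, h⟩⟩
      · exact ⟨2, by simp, by rw [Bool.and_eq_true]; exact ⟨(hcl 2 h).1 hf, h⟩⟩
      · exact ⟨3, by simp, by rw [Bool.and_eq_true]; exact ⟨(hcl 3 h).1 hf, h⟩⟩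
    · intro h
      rw [qD, List.any_eq_true] at h
      obtain ⟨i, hi, h⟩ := h
      rw [Bool.and_eq_true] at h
      exact (hcl ⟨i, List.mem_range.1 hi⟩ h.2).2 h.1
  have hN : ∀ g : H, (O.filter fun f => dt f.1 (g • om).1 = 1).card =
      (O.filter fun f => dt f.1 om.1 = 1).card := by
    intro g
    rw [← Finset.card_image_of_injective (O.filter fun f => dt f.1 om.1 = 1) (dg_injective hlin g)]
    refine congrArg Finset.card (Finset.ext fun f => ?_)
    simp only [Finset.mem_filter, Finset.mem_image]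
    constructor
    · rintro ⟨hf, h1⟩
      refine ⟨dg g⁻¹ f, ⟨(hOinv _ _).2 hf, ?_⟩, by rw [← dg_mul hlin, mul_inv_cancel, dg_one hlin]⟩
      rw [dt_dg hlin, inv_inv]; exact h1
    · rintro ⟨e, ⟨he, h1⟩, rfl⟩
      exact ⟨(hOinv _ _).2 he, by rw [dt_dg_smul hlin]; exact h1⟩
  have hcount : ∀ x : Fin 4096, x ∈ P →
      (List.range 4096).countP (fun f => qD bD f && dt f x.1 == 1) =
      (List.range 4096).countP (fun f => qD bD f && dt f 4095 == 1) := by
    intro x hx
    have conv : ∀ y : Fin 4096, (O.filter fun f => dt f.1 y.1 = 1).card =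
        (List.range 4096).countP (fun f => qD bD f && dt f y.1 == 1) := by
      intro y
      rw [← card_filter_eq]
      refine congrArg Finset.card (Finset.ext fun f => ?_)
      simp [hOq]
    obtain ⟨g, -, rfl⟩ := Finset.mem_image.1 hx
    rw [← conv, hN, conv, homv]
  -- the orbit of the word is a union of classes
  let b8 := decide ((⟨_, r8⟩ : Fin 4096) ∈ P)
  let b12 := decide ((⟨_, r12⟩ : Fin 4096) ∈ P)
  let b16 := decide ((⟨_, r16⟩ : Fin 4096) ∈ P)
  have h3 : gensC.take 3 = gensC := by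
    rw [List.take_of_length_le]; rw [gens_bounds.2.2.1]
  obtain ⟨t8, t12, t16⟩ := weight_trees
  rw [← h3] at t8 t12 t16
  have hPq : ∀ x : Fin 4096, x ∈ P ↔ qW b8 b12 b16 x.1 = true := by
    intro x
    have e8 := fun h => mem_iff_of_tree (S := P) hlin hgen 3 le_rfl t8 r8 (fun _ _ g _ => hPinv g) x h
    have e12 := fun h => mem_iff_of_tree (S := P) hlin hgen 3 le_rfl t12 r12 (fun _ _ g _ => hPinv g) x h
    have e16 := fun h => mem_iff_of_tree (S := P) hlin hgen 3 le_rfl t16 r16 (fun _ _ g _ => hPinv g) x h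
    simp only [qW, Bool.or_eq_true, Bool.and_eq_true, beq_iff_eq, b8, b12, b16, decide_eq_true_eq]
    constructor
    · intro hx
      rcases hwc x with h | h | h | h | h
      · exact absurd hx (hF0' x h)
      · exact Or.inl (Or.inl (Or.inl h))
      · exact Or.inl (Or.inl (Or.inr ⟨(e8 h).1 hx, h⟩))
      · exact Or.inl (Or.inr ⟨(e12 h).1 hx, h⟩)
      · exact Or.inr ⟨(e16 h).1 hx, h⟩
    · rintro (((h | h) | h) | h)
      · rwa [show x = om from Fin.ext h]
      · exact (e8 h.2).2 h.1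
      · exact (e12 h.2).2 h.1
      · exact (e16 h.2).2 h.1
  have hPcard : P.card = 1 + (if b8 then 759 else 0) + (if b12 then 2576 else 0) + (if b16 then 759 else 0) := by
    rw [← count_qW, ← card_filter_eq]
    refine congrArg Finset.card (Finset.ext fun x => ?_)
    simp [hPq]
  by_cases hone : b8 = false ∧ b12 = false ∧ b16 = false
  · have h1 : g₀ • om ∈ P := Finset.mem_image.2 ⟨g₀, Finset.mem_univ _, rfl⟩
    rw [hPq, hone.1, hone.2.1, hone.2.2, qW] at h1
    exact Fin.ext (by rw [homv]; simpa using h1)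
  exfalso
  obtain ⟨xr', hxm, hxP⟩ : ∃ x ∈ [rep 8, rep 12, rep 16], ∃ h : x < 4096, (⟨x, h⟩ : Fin 4096) ∈ P := by
    by_cases h8 : (⟨_, r8⟩ : Fin 4096) ∈ P
    · exact ⟨_, by simp, r8, h8⟩
    by_cases h12 : (⟨_, r12⟩ : Fin 4096) ∈ P
    · exact ⟨_, by simp, r12, h12⟩
    by_cases h16 : (⟨_, r16⟩ : Fin 4096) ∈ P
    · exact ⟨_, by simp, r16, h16⟩
    exact absurd ⟨decide_eq_false h8, decide_eq_false h12, decide_eq_false h16⟩ hone
  obtain ⟨hx4, hxP⟩ := hxP
  obtain ⟨hb1, hb2, hb3⟩ := count_qD _ _ _ xr' hxm (hcount ⟨xr', hx4⟩ hxP)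
  have hOcard : O.card = 4095 := by
    rw [← count_all, ← card_filter_eq]
    refine congrArg Finset.card (Finset.ext fun f => ?_)
    simp only [hOq, Finset.mem_filter, Finset.mem_univ, true_and]
    show qD bD f.1 = true ↔ _
    have : bD = fun i => [true, true, true, true].getD i false := by
      funext i; simp only [bD, hb1, hb2, hb3]
    rw [this]
  -- flags
  have hFinv : ∀ (h : H) x f, (x, f) ∈ Fl → (h • x, dg h f) ∈ Fl := by
    intro h x f hm
    obtain ⟨g, -, hg⟩ := Finset.mem_image.1 hm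
    refine Finset.mem_image.2 ⟨h * g, Finset.mem_univ _, ?_⟩
    rw [← (Prod.mk.inj hg).1, ← (Prod.mk.inj hg).2, mul_smul, dg_mul hlin]
  let S0 : Finset (Fin 4096) := Finset.univ.filter fun f => (om, f) ∈ Fl
  let K : Finset (Fin 4096) := Finset.univ.filter fun x => (x, ff) ∈ Fl
  have hfix : ∀ g : H, g • om = om → ∀ f, dg g f ∈ S0 ↔ f ∈ S0 := by
    intro g hg f
    simp only [S0, Finset.mem_filter, Finset.mem_univ, true_and]
    constructor
    · intro h
      have h' := hFinv g⁻¹ _ _ h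
      rwa [dg_inv_dg hlin, show g⁻¹ • om = om by rw [inv_smul_eq_iff, hg]] at h'
    · intro h
      have h' := hFinv g _ _ h
      rwa [hg] at h'
  have hprof : ∀ g : H, g • om = om → prof (dg g ff).1 = prof 3189 := by
    intro g hg
    have hgi : g⁻¹ • om = om := by rw [inv_smul_eq_iff, hg]
    have conv : ∀ f : Fin 4096, prof f.1 =
        (Finset.univ.filter fun x : Fin 4096 => W x = 8 ∧ dt f.1 x.1 = 1).card := by
      intro f
      rw [prof, ← card_filter_eq]
      refine congrArg Finset.card (Finset.ext fun x => ?_)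
      simp only [W, Finset.mem_filter, Finset.mem_univ, true_and, Bool.and_eq_true, beq_iff_eq]
      exact ⟨fun h => Finset.mem_filter.2 ⟨Finset.mem_univ _, h⟩, fun h => (Finset.mem_filter.1 h).2⟩
    rw [← hffv, conv, conv, ← Finset.card_image_of_injective
      (Finset.univ.filter fun x : Fin 4096 => W x = 8 ∧ dt ff.1 x.1 = 1) (MulAction.injective g)]
    refine congrArg Finset.card (Finset.ext fun x => ?_)
    simp only [Finset.mem_filter, Finset.mem_univ, true_and, Finset.mem_image]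
    constructor
    · rintro ⟨h1, h2⟩
      refine ⟨g⁻¹ • x, ⟨by rw [hwt _ hgi, h1], ?_⟩, smul_inv_smul g x⟩
      rwa [← dt_dg hlin]
    · rintro ⟨y, ⟨h1, h2⟩, rfl⟩
      exact ⟨by rw [hwt _ hg, h1], by rw [dt_dg_smul hlin]; exact h2⟩
  have hS0 : S0.card = 24 := by
    have e0 : S0 = Finset.univ.filter fun f : Fin 4096 => (dmask 0).testBit f.1 = true := by
      have hff0 : ff ∈ S0 := Finset.mem_filter.2
        ⟨Finset.mem_univ _, Finset.mem_image.2 ⟨1, Finset.mem_univ _, by rw [one_smul, dg_one hlin]⟩⟩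
      have hcl : ∀ i : Fin 4, ∀ f : Fin 4096, (dmask i.1).testBit f.1 = true →
          (f ∈ S0 ↔ (⟨_, rd i⟩ : Fin 4096) ∈ S0) :=
        fun i f hf => mem_iff_of_dtree hlin hgen i (rd i) (fun g hg => hfix g (hor3 g hg)) f hf
      ext f
      simp only [Finset.mem_filter, Finset.mem_univ, true_and]
      refine ⟨fun hf => ?_, fun h => (hcl 0 f h).2 (hrep0 ▸ hff0)⟩
      obtain ⟨g, -, hg⟩ := Finset.mem_image.1 (Finset.mem_filter.1 hf).2
      obtain ⟨h1, h2⟩ := Prod.mk.inj hg
      have h3 : dt f.1 4095 = 1 := by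
        have := dt_dg_smul hlin g ff om
        rw [h1, h2] at this
        rw [← homv, this, hffv, homv, hfo]
      rcases hodd f h3 with h | h
      · exact h
      · exfalso
        have h2' := (hcl 2 f h).1 hf
        obtain ⟨g', -, hg'⟩ := Finset.mem_image.1 (Finset.mem_filter.1 h2').2
        obtain ⟨h1', h2''⟩ := Prod.mk.inj hg'
        have h4 := hprof g' h1'
        rw [h2''] at h4
        change prof (dreps.getD 2 0) = prof 3189 at h4
        rw [prof_table.1, prof_table.2] at h4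
        omega
    rw [e0, card_filter_eq]
    have := cnt_table.1
    simp only [show List.range 4 = [0, 1, 2, 3] from rfl, List.map_cons, List.map_nil, List.cons.injEq] at this
    simpa only [dsize] using this.1
  have hfl1 : Fl.card = 24 * P.card := by
    rw [Finset.card_eq_sum_card_fiberwise (f := Prod.fst) (t := P) (fun p hp => by
      obtain ⟨g, -, rfl⟩ := Finset.mem_image.1 hp
      exact Finset.mem_image.2 ⟨g, Finset.mem_univ _, rfl⟩)]
    rw [Finset.sum_const_nat (m := 24), mul_comm]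
    intro x hx
    obtain ⟨g, -, rfl⟩ := Finset.mem_image.1 hx
    rw [← hS0]
    refine (Finset.card_bij (fun f _ => ((g • om, dg g f) : Fin 4096 × Fin 4096)) ?_ ?_ ?_).symm
    · intro f hf
      exact Finset.mem_filter.2 ⟨hFinv g _ _ (Finset.mem_filter.1 hf).2, rfl⟩
    · intro a _ b _ e
      exact dg_injective hlin g (Prod.mk.inj e).2
    · intro p hp
      obtain ⟨hp1, hp2⟩ := Finset.mem_filter.1 hp
      refine ⟨dg g⁻¹ p.2, Finset.mem_filter.2 ⟨Finset.mem_univ _, ?_⟩, ?_⟩
      · have h' := hFinv g⁻¹ p.1 p.2 hp1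
        rwa [hp2, inv_smul_smul] at h'
      · rw [← dg_mul hlin, mul_inv_cancel, dg_one hlin, ← hp2]
  have hfl2 : Fl.card = K.card * 4095 := by
    rw [Finset.card_eq_sum_card_fiberwise (f := Prod.snd) (t := O) (fun p hp => by
      obtain ⟨g, -, rfl⟩ := Finset.mem_image.1 hp
      exact Finset.mem_image.2 ⟨g, Finset.mem_univ _, rfl⟩)]
    rw [Finset.sum_const_nat (m := K.card), hOcard, mul_comm]
    intro f hf
    obtain ⟨g, -, rfl⟩ := Finset.mem_image.1 hf
    refine (Finset.card_bij (fun x _ => ((g • x, dg g ff) : Fin 4096 × Fin 4096)) ?_ ?_ ?_).symm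
    · intro x hx
      exact Finset.mem_filter.2 ⟨hFinv g _ _ (Finset.mem_filter.1 hx).2, rfl⟩
    · intro a _ b _ e
      exact MulAction.injective g (Prod.mk.inj e).1
    · intro p hp
      obtain ⟨hp1, hp2⟩ := Finset.mem_filter.1 hp
      refine ⟨g⁻¹ • p.1, Finset.mem_filter.2 ⟨Finset.mem_univ _, ?_⟩, ?_⟩
      · have h' := hFinv g⁻¹ p.1 p.2 hp1
        rwa [hp2, dg_inv_dg hlin] at h'
      · rw [smul_inv_smul, ← hp2]
  have hK : K.card = 24 := by
    have h1 : 24 * P.card = K.card * 4095 := hfl1.symm.trans hfl2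
    rw [hPcard] at h1
    have h2 : b8 = true ∨ b12 = true ∨ b16 = true := by
      by_contra hh
      exact hone (by simpa using hh)
    split_ifs at h1 <;> first | omega | (exfalso; simp_all)
  -- the stabiliser of a point has no orbit of that size
  have homK : om ∈ K := Finset.mem_filter.2
    ⟨Finset.mem_univ _, Finset.mem_image.2 ⟨1, Finset.mem_univ _, by rw [one_smul, dg_one hlin]⟩⟩
  have hKinv : ∀ k : Fin 3, k.1 < 2 → ∀ g : H, (∀ x : Fin 4096, (g • x).1 = comb (gensC.getD k.1 []) x.1) →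
      ∀ x, g • x ∈ K ↔ x ∈ K := by
    intro k hk g hg x
    obtain ⟨g', hg', hd⟩ := gen_dual hlin hgen k
    have e : ∀ f, dg g f = dg g' f := fun f => comb_ext fun i => by
      have a := dt_dg hlin g f ⟨2 ^ i.1, Nat.pow_lt_pow_right (by norm_num) i.2⟩
      have b := dt_dg hlin g' f ⟨2 ^ i.1, Nat.pow_lt_pow_right (by norm_num) i.2⟩
      have hinv : ∀ y : Fin 4096, g⁻¹ • y = g'⁻¹ • y := fun y => by
        rw [inv_smul_eq_iff]
        conv_lhs => rw [← smul_inv_smul g' y]
        exact Fin.ext (by rw [hg, hg'])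
      rw [a, b, hinv]
    have hgf : dg g ff = ff := Fin.ext (by rw [e, hd, hffv]; exact hff ⟨k.1, hk⟩)
    simp only [K, Finset.mem_filter, Finset.mem_univ, true_and]
    constructor
    · intro h
      have h' := hFinv g⁻¹ _ _ h
      have hgi : dg g⁻¹ ff = ff := (congrArg (dg g⁻¹) hgf.symm).trans (dg_inv_dg hlin g ff)
      rwa [inv_smul_smul, hgi] at h'
    · intro h
      have h' := hFinv g _ _ h
      rwa [hgf] at h'
  obtain ⟨x, hxK, hxne⟩ := Finset.exists_mem_ne (show 1 < K.card by omega) om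
  have hxdt : dt 3189 x.1 = 1 := by
    obtain ⟨g, -, hg⟩ := Finset.mem_image.1 (Finset.mem_filter.1 hxK).2
    obtain ⟨h1, h2⟩ := Prod.mk.inj hg
    have := dt_dg_smul hlin g ff om
    rw [h1, h2, hffv, homv, hfo] at this
    exact this
  have big : ∀ (mask root : ℕ) (es : List ℕ) (n : ℕ), (List.range 4096).countP (fun m => mask.testBit m) = n →
      24 < n → treeOK (gensC.take 2) root es mask = true → root < 4096 → mask.testBit x.1 = true → False := by
    intro mask root es n hn h24 ht hr hx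
    have hsub : (Finset.univ.filter fun y : Fin 4096 => mask.testBit y.1 = true) ⊆ K := by
      intro y hy
      have hy' := (Finset.mem_filter.1 hy).2
      rw [mem_iff_of_tree hlin hgen 2 (by norm_num) ht hr hKinv y hy',
        ← mem_iff_of_tree hlin hgen 2 (by norm_num) ht hr hKinv x hx]
      exact hxK
    have hle := Finset.card_le_card hsub
    rw [card_filter_eq, hn, hK] at hle
    omega
  obtain ⟨-, -, -, w8, w12, w16⟩ := wsize
  obtain ⟨s8, s12, s16⟩ := sub_trees
  rcases hsc x hxdt with h | h | h | h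
  · exact hxne (Fin.ext h)
  · exact big _ _ _ _ w8 (by norm_num) s8 r8 h
  · exact big _ _ _ _ w12 (by norm_num) s12 r12 h
  · exact big _ _ _ _ w16 (by norm_num) s16 r16 h

end CfsgLib.CoZeroStd
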