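import Cfsg.Agent.Lib.CoZeroStd.InvolChecks
import Cfsg.Agent.S5378
import Cfsg.Agent.S5388

/-!
The elements of the lattice group with central square: three representatives up to the centre, and in
each centralizer a commutator equal to the negation.
-/

set_option autoImplicit false
set_option maxRecDepth 100000
set_option linter.style.haveILetI false

namespace CfsgLib.CoZeroStd

open Cfsg CfsgLib.Golay CfsgLib.Leech
open scoped Pointwise

attribute [local irreducible] dL bL key keyL coord packB linL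

/-- the negation is a commutator in the centralizer -/
def NegComm (t : ↥Co0) : Prop :=
  ∃ p q : ↥Co0, p * t = t * p ∧ q * t = t * q ∧ p * q = negAut * (q * p)

theorem okM_neg : mo negU = negAut := by
  rw [rep_ok.2.1, mo_sign om (rep_ok.2.1 ▸ rep_ok.1), sg_om]

theorem negComm_cert {k : ℕ} (h : certOK k = true) :
    NegComm (mo ((comCerts.getD k []).getD 0 (0, 0))) := by
  simp only [certOK, Bool.and_eq_true] at h
  obtain ⟨⟨⟨⟨⟨⟨h1, h2⟩, h3⟩, h4⟩, h5⟩, h6⟩, h7⟩ := h
  refine ⟨_, _, (mo_mul h1).trans (mo_mul h2).symm, (mo_mul h3).trans (mo_mul h4).symm, ?_⟩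
  rw [mo_mul h5, mo_mul h6, ← okM_neg, mo_mul h7]

theorem negAut_central (g : ↥Co0) : g * negAut = negAut * g := by
  have h : negAut ∈ (Subgroup.center ↥Co0 : Set ↥Co0) := by rw [center_eq]; simp
  exact Subgroup.mem_center_iff.1 h g

theorem negAut_sq : negAut * negAut = (1 : ↥Co0) := by
  rw [← sg_om, sg_sq]

theorem negAut_mem : negAut ∈ Subgroup.center ↥Co0 :=
  Subgroup.mem_center_iff.2 negAut_central

theorem center_cases {c : ↥Co0} (h : c ∈ Subgroup.center ↥Co0) : c = 1 ∨ c = sg om := by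
  rw [sg_om]
  have h' : c ∈ (Subgroup.center ↥Co0 : Set ↥Co0) := h
  rw [center_eq] at h'
  simpa using h'

theorem NegComm.conj {t : ↥Co0} (h : NegComm t) {c : ↥Co0} (hc : c ∈ Subgroup.center ↥Co0) (g : ↥Co0) :
    NegComm (g⁻¹ * (c * t) * g) := by
  obtain ⟨p, q, hp, hq, hpq⟩ := h
  have key : ∀ p, p * t = t * p → (g⁻¹ * p * g) * (g⁻¹ * (c * t) * g) = (g⁻¹ * (c * t) * g) * (g⁻¹ * p * g) := by
    intro p hp
    have : p * (c * t) = c * t * p := by
      rw [← mul_assoc, Subgroup.mem_center_iff.1 hc p, mul_assoc, hp, mul_assoc]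
    calc (g⁻¹ * p * g) * (g⁻¹ * (c * t) * g) = g⁻¹ * (p * (c * t)) * g := by group
      _ = g⁻¹ * (c * t * p) * g := by rw [this]
      _ = _ := by group
  refine ⟨g⁻¹ * p * g, g⁻¹ * q * g, key p hp, key q hq, ?_⟩
  calc g⁻¹ * p * g * (g⁻¹ * q * g) = g⁻¹ * (p * q) * g := by group
    _ = g⁻¹ * (negAut * (q * p)) * g := by rw [hpq]
    _ = g⁻¹ * negAut * ((q * p) * g) := by group
    _ = negAut * g⁻¹ * ((q * p) * g) := by rw [negAut_central g⁻¹]
    _ = negAut * (g⁻¹ * q * g * (g⁻¹ * p * g)) := by group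

/-- the first two representatives -/
def xo : Fin 4096 := ⟨xr0 0 % 4096, Nat.mod_lt _ (by norm_num)⟩

/-- the second representative -/
def xd : Fin 4096 := ⟨xr0 1 % 4096, Nat.mod_lt _ (by norm_num)⟩

/-- the representative of square the negation -/
noncomputable def A0 : ↥Co0 := mo ((comCerts.getD 2 []).getD 0 (0, 0))

theorem okM_sign {x : Fin 4096} : okM (SylowTwo.idP, cw x) = true := by
  have h : inM24 SylowTwo.idP = true := by decide +kernel
  simp [okM, h, (cw_facts x).2.1]
  exact (cw_facts x).1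

theorem negComm_reps : NegComm (sg xo) ∧ NegComm (sg xd) ∧ NegComm A0 := by
  refine ⟨?_, ?_, negComm_cert cert_ok.2.2⟩
  · have := negComm_cert cert_ok.1
    rwa [rep_ok.2.2.1, mo_sign _ okM_sign] at this
  · have := negComm_cert cert_ok.2.1
    rwa [rep_ok.2.2.2.1, mo_sign _ okM_sign] at this

theorem A0_sq : A0 * A0 = negAut := by
  rw [A0, mo_mul rep_ok.2.2.2.2.2.2.2, okM_neg]

theorem negAut_ne : negAut ≠ (1 : ↥Co0) := by
  intro h
  rw [← sg_om, ← sg_zero] at h
  exact absurd (congrArg Fin.val (sg_inj h)) (by decide)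

/-- up to the centre the elements of central square are conjugate to three -/
theorem invol_cases {u : ↥Co0} (hu : u * u ∈ Subgroup.center ↥Co0) (hn : u ∉ Subgroup.center ↥Co0) :
    ∃ g c : ↥Co0, c ∈ Subgroup.center ↥Co0 ∧
      (g * u * g⁻¹ = c * sg xo ∨ g * u * g⁻¹ = c * sg xd ∨ g * u * g⁻¹ = c * A0) := by
  haveI := finite_Co0
  let π := QuotientGroup.mk' (Subgroup.center ↥Co0)
  have hord : ∀ v : ↥Co0, v * v ∈ Subgroup.center ↥Co0 → v ∉ Subgroup.center ↥Co0 → orderOf (π v) = 2 := by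
    intro v h1 h2
    refine orderOf_eq_prime ?_ ?_
    · rw [pow_two, ← map_mul]; exact (QuotientGroup.eq_one_iff _).2 h1
    · exact fun e => h2 ((QuotientGroup.eq_one_iff _).1 e)
  have hsgn : ∀ x, W x = 8 ∨ W x = 12 → sg x ∉ Subgroup.center ↥Co0 := by
    intro x hx h
    rcases center_cases h with e | e
    · rw [← sg_zero] at e
      rw [sg_inj e] at hx
      exact absurd hx (by decide +kernel)
    · rw [sg_inj e] at hx
      exact absurd hx (by decide +kernel)
  have ho : orderOf (π (sg xo)) = 2 :=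
    hord _ (by rw [sg_sq]; exact one_mem _) (hsgn _ (Or.inl rep_ok.2.2.2.2.1))
  have hd : orderOf (π (sg xd)) = 2 :=
    hord _ (by rw [sg_sq]; exact one_mem _) (hsgn _ (Or.inr rep_ok.2.2.2.2.2.1))
  have ha : orderOf (π A0) = 2 := hord _ (by rw [A0_sq]; exact negAut_mem) fun h => by
    have := A0_sq
    rcases center_cases h with e | e <;> rw [e] at this
    · rw [one_mul] at this; exact negAut_ne this.symm
    · rw [sg_sq] at this; exact negAut_ne this.symm
  have hlift : ∀ v t : ↥Co0, IsConj (π v) (π t) → ∃ g c : ↥Co0, c ∈ Subgroup.center ↥Co0 ∧ g * v * g⁻¹ = c * t := by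
    intro v t h
    obtain ⟨b, hb⟩ := isConj_iff.1 h
    obtain ⟨g, rfl⟩ := QuotientGroup.mk'_surjective _ b
    refine ⟨g, g * v * g⁻¹ * t⁻¹, ?_, by rw [inv_mul_cancel_right]⟩
    refine (QuotientGroup.eq_one_iff _).1 ?_
    show π (g * v * g⁻¹ * t⁻¹) = 1
    rw [map_mul, map_mul, map_mul, map_inv, map_inv, hb, mul_inv_cancel]
  have nod : ¬ IsConj (π (sg xo)) (π (sg xd)) := by
    intro h
    obtain ⟨g, c, hc, e⟩ := hlift _ _ h
    rcases center_cases hc with rfl | rfl
    · rw [one_mul] at e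
      have := weight_eq_of_conj e
      rw [show W xo = 8 from rep_ok.2.2.2.2.1, show W xd = 12 from rep_ok.2.2.2.2.2.1] at this
      exact absurd this (by norm_num)
    · rw [sg_mul] at e
      have := weight_eq_of_conj e
      rw [show W xo = 8 from rep_ok.2.2.2.2.1, show W (xr om xd) = 12 from rep_ok.2.2.2.2.2.2.1] at this
      exact absurd this (by norm_num)
  have noa : ∀ x, ¬ IsConj (π (sg x)) (π A0) := by
    intro x h
    obtain ⟨g, c, hc, e⟩ := hlift _ _ h
    have h1 : (g * sg x * g⁻¹) * (g * sg x * g⁻¹) = 1 := by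
      rw [show (g * sg x * g⁻¹) * (g * sg x * g⁻¹) = g * (sg x * sg x) * g⁻¹ by group, sg_sq]; group
    rw [e, mul_assoc, ← mul_assoc A0, Subgroup.mem_center_iff.1 hc A0, mul_assoc, A0_sq, ← mul_assoc] at h1
    rcases center_cases hc with rfl | rfl
    · rw [one_mul, one_mul] at h1; exact negAut_ne h1
    · rw [sg_sq, one_mul] at h1; exact negAut_ne h1
  obtain ⟨z, hz, Q, hQn, hF, hQ, hcard, he, hnwc⟩ := Cfsg.Agent.S5388.result
  haveI := hQn
  obtain ⟨e⟩ := he
  obtain ⟨A, B, C, -, -, -, -, -, -, hall⟩ := Cfsg.Agent.S5378.result z hz Q hF hQ hcard e hnwc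
  have key : IsConj (π u) (π (sg xo)) ∨ IsConj (π u) (π (sg xd)) ∨ IsConj (π u) (π A0) := by
    rcases hall _ (hord u hu hn) with hu' | hu' | hu' <;> rcases hall _ ho with ho' | ho' | ho' <;>
      rcases hall _ hd with hd' | hd' | hd' <;> rcases hall _ ha with ha' | ha' | ha' <;>
      first
        | exact Or.inl (hu'.trans ho'.symm)
        | exact Or.inr (Or.inl (hu'.trans hd'.symm))
        | exact Or.inr (Or.inr (hu'.trans ha'.symm))
        | exact absurd (ho'.trans hd'.symm) nod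
        | exact absurd (ho'.trans ha'.symm) (noa _)
        | exact absurd (hd'.trans ha'.symm) (noa _)
  rcases key with h | h | h <;> obtain ⟨g, c, hc, e⟩ := hlift _ _ h
  · exact ⟨g, c, hc, Or.inl e⟩
  · exact ⟨g, c, hc, Or.inr (Or.inl e)⟩
  · exact ⟨g, c, hc, Or.inr (Or.inr e)⟩

/-- the negation is a commutator in the centralizer of every noncentral element of central square -/
theorem negComm_of_sq {u : ↥Co0} (hu : u * u ∈ Subgroup.center ↥Co0) (hn : u ∉ Subgroup.center ↥Co0) :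
    NegComm u := by
  obtain ⟨g, c, hc, h⟩ := invol_cases hu hn
  have e : ∀ t, g * u * g⁻¹ = t → u = g⁻¹ * t * g := fun t ht => by rw [← ht]; group
  rcases h with h | h | h <;> rw [e _ h]
  · exact negComm_reps.1.conj hc g
  · exact negComm_reps.2.1.conj hc g
  · exact negComm_reps.2.2.conj hc g

/-- an involution is conjugate to a sign change -/
theorem exists_conj_sg {u : ↥Co0} (hu : u * u = 1) (hn : u ∉ Subgroup.center ↥Co0) :
    ∃ (g : ↥Co0) (x : Fin 4096), g * u * g⁻¹ = sg x := by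
  obtain ⟨g, c, hc, h⟩ := invol_cases (by rw [hu]; exact one_mem _) hn
  have hs : ∀ x, ∃ y, c * sg x = sg y := fun x => by
    rcases center_cases hc with rfl | rfl
    · exact ⟨x, one_mul _⟩
    · exact ⟨_, sg_mul _ _⟩
  rcases h with h | h | h
  · obtain ⟨y, hy⟩ := hs xo; exact ⟨g, y, h.trans hy⟩
  · obtain ⟨y, hy⟩ := hs xd; exact ⟨g, y, h.trans hy⟩
  · exfalso
    have h1 : (g * u * g⁻¹) * (g * u * g⁻¹) = 1 := by
      rw [show (g * u * g⁻¹) * (g * u * g⁻¹) = g * (u * u) * g⁻¹ by group, hu]; group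
    rw [h, mul_assoc, ← mul_assoc A0, Subgroup.mem_center_iff.1 hc A0, mul_assoc, A0_sq, ← mul_assoc] at h1
    rcases center_cases hc with rfl | rfl
    · rw [one_mul, one_mul] at h1; exact negAut_ne h1
    · rw [sg_sq, one_mul] at h1; exact negAut_ne h1

theorem fin_induction {P : Fin 4096 → Prop} (h0 : P 0) (hx : ∀ x y, P x → P y → P (xr x y))
    (hb : ∀ i : Fin 12, P ⟨2 ^ i.1, Nat.pow_lt_pow_right (by norm_num) i.2⟩) (x : Fin 4096) : P x := by
  suffices ∀ n, n ≤ 12 → ∀ x : Fin 4096, x.1 < 2 ^ n → P x from this 12 le_rfl x x.2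
  intro n
  induction n with
  | zero =>
    intro _ x hx'
    rw [show x = 0 from Fin.ext (by simpa using hx')]
    exact h0
  | succ n ih =>
    intro hn x hx'
    by_cases hb' : x.1.testBit n = true
    · have hlt : x.1 ^^^ 2 ^ n < 2 ^ n := by
        refine Nat.lt_pow_two_of_testBit _ fun i hi => ?_
        rw [Nat.testBit_xor, Nat.testBit_two_pow]
        by_cases h : n = i
        · subst h; simp [hb']
        · rw [Nat.testBit_lt_two_pow (lt_of_lt_of_le hx' (Nat.pow_le_pow_right (by norm_num) (by omega)))]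
          simp [h]
      have h1 := ih (by omega) ⟨x.1 ^^^ 2 ^ n, hlt.trans_le (Nat.pow_le_pow_right (by norm_num) (by omega : n ≤ 12))⟩ hlt
      have h2 := hx _ _ h1 (hb ⟨n, by omega⟩)
      rwa [show xr _ _ = x from Fin.ext (by simp [xr, Nat.xor_assoc])] at h2
    · refine ih (by omega) x (Nat.lt_pow_two_of_testBit _ fun i hi => ?_)
      by_cases h : n = i
      · subst h; simpa using hb'
      · exact Nat.testBit_lt_two_pow (lt_of_lt_of_le hx' (Nat.pow_le_pow_right (by norm_num) (by omega)))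

/-- signed permutations inducing the generators -/
theorem gen_conj (k : Fin 3) : ∃ g : ↥Co0, ∀ x : Fin 4096, ∃ y : Fin 4096,
    y.1 = comb (gensC.getD k.1 []) x.1 ∧ g * sg x * g⁻¹ = sg y := by
  refine ⟨mo (gensM.getD k.1 (0, 0)), fun x => ?_⟩
  refine fin_induction (P := fun x => ∃ y : Fin 4096, y.1 = comb (gensC.getD k.1 []) x.1 ∧
    mo (gensM.getD k.1 (0, 0)) * sg x * (mo (gensM.getD k.1 (0, 0)))⁻¹ = sg y) ⟨0, ?_, ?_⟩ ?_ ?_ x
  · have := comb_xor (gensC.getD k.1 []) 0 0
    simpa using this.symm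
  · rw [sg_zero]; group
  · rintro a b ⟨y, hy, e⟩ ⟨y', hy', e'⟩
    refine ⟨xr y y', ?_, ?_⟩
    · show y.1 ^^^ y'.1 = _
      rw [hy, hy', ← comb_xor]; rfl
    · rw [← sg_mul a b, ← sg_mul y y', ← e, ← e']; group
  · intro i
    obtain ⟨h1, h2⟩ := (gensM_ok k).2 i
    refine ⟨⟨comb (gensC.getD k.1 []) (2 ^ i.1), h1⟩, rfl, ?_⟩
    have := mo_conj h2
    simp only [Nat.mod_eq_of_lt h1,
      Nat.mod_eq_of_lt (show 2 ^ i.1 < 4096 from Nat.pow_lt_pow_right (by norm_num) i.2 (n := 12))] at this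
    exact this

end CfsgLib.CoZeroStd
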