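import Mathlib

/-!
Signed permutations commuting with three involutions with commutator the negation, generators acting
on the code, and spanning words of each weight. Found by computer; checked in `Invol`.
-/

set_option autoImplicit false

namespace CfsgLib.CoZeroStd

/-- for each representative: it, two elements, their products with it, and with each other -/
def comCerts : List (List (ℕ × ℕ)) := [[(984818244535754528103549039458486304, 13062145), (520780441832078800888130167110773792, 12692945), (721982140736294021174337952527035662, 0), (520780441832078800888130167110773792, 458192), (721982140736294021174337952527035662, 13062145), (944577545074200972271548926842210574, 12692945), (944577545074200972271548926842210574, 4084270)],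
  [(984818244535754528103549039458486304, 8245261), (398633905377269148690376251054674190, 5324617), (398633905377269148690376251054674190, 0), (398633905377269148690376251054674190, 2944836), (398633905377269148690376251054674190, 8245261), (984818244535754528103549039458486304, 5324617), (984818244535754528103549039458486304, 11452598)],
  [(801204267977263218380657567595860424, 8245261), (943824546994281929045677902270222792, 9858888), (636894972491819688304172678947867649, 13062145), (398960961705607082742499492608841760, 2377830), (721982140736294021174337952527035662, 7698223), (434940290039285463330118079482582286, 5529194), (434940290039285463330118079482582286, 11248021)]]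

/-- signed permutations inducing the generators -/
def gensM : List (ℕ × ℕ) := [(983478296959358443554250846857397270, 0), (969952412052033243847481939299780672, 0), (914299547958271476800544734014024375, 0)]

/-- spanning words -/
def spans : List (List (List ℕ)) := [[[1], [2], [4], [8], [16], [32], [64], [128], [256], [512], [1024], [2048]],
  [[26, 27], [26, 27, 13, 14], [26, 13, 29, 14], [14, 27, 29], [29, 13], [34, 13, 14, 26, 27], [69, 13, 14, 27, 29], [137, 14, 26, 29], [257, 26, 27], [515, 13, 14], [1027, 13, 14], [27, 29, 2054]],
  [[236, 303, 445, 127], [236, 151, 443, 445, 127], [236, 127, 151], [351, 236, 443], [303, 443, 251, 127], [373, 151, 445, 127], [351, 373, 443, 151, 251, 445], [251, 236, 151], [351, 373, 151, 445], [351, 373, 151, 569, 251, 127], [351, 236, 303, 373, 443, 151, 251, 1086], [351, 373, 443, 151, 251, 445, 2111, 127]]]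

end CfsgLib.CoZeroStd
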