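import Cfsg.Agent.Lib.CoZeroStd.Mono
import Cfsg.Agent.Lib.CoZeroStd.InvolData
import Cfsg.Agent.Lib.Golay.SylowTwoCert

/-!
Checks on the signed permutations.
-/

set_option autoImplicit false
set_option maxRecDepth 100000
set_option Elab.async false

namespace CfsgLib.CoZeroStd

open CfsgLib.Golay

/-- the negation -/
def negU : ℕ × ℕ := (SylowTwo.idP, 16777215)

/-- the certificate of one representative -/
def certOK (k : ℕ) : Bool :=
  let l := comCerts.getD k []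
  let u (i : ℕ) := l.getD i (0, 0)
  mulOK (u 1) (u 0) (u 3) && mulOK (u 0) (u 1) (u 3) && mulOK (u 2) (u 0) (u 4) && mulOK (u 0) (u 2) (u 4) &&
    mulOK (u 1) (u 2) (u 5) && mulOK (u 2) (u 1) (u 6) && mulOK negU (u 6) (u 5)

/-- a coordinate of a representative -/
def xr0 (k : ℕ) : ℕ := ((comCerts.getD k []).getD 0 (0, 0)).2 % 4096

theorem cert_ok : certOK 0 = true ∧ certOK 1 = true ∧ certOK 2 = true := by decide +kernel

theorem rep_ok : okM negU = true ∧ negU = (SylowTwo.idP, cw om) ∧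
    (comCerts.getD 0 []).getD 0 (0, 0) = (SylowTwo.idP, cw ⟨xr0 0 % 4096, Nat.mod_lt _ (by norm_num)⟩) ∧
    (comCerts.getD 1 []).getD 0 (0, 0) = (SylowTwo.idP, cw ⟨xr0 1 % 4096, Nat.mod_lt _ (by norm_num)⟩) ∧
    W ⟨xr0 0 % 4096, Nat.mod_lt _ (by norm_num)⟩ = 8 ∧ W ⟨xr0 1 % 4096, Nat.mod_lt _ (by norm_num)⟩ = 12 ∧
    W (xr om ⟨xr0 1 % 4096, Nat.mod_lt _ (by norm_num)⟩) = 12 ∧
    mulOK ((comCerts.getD 2 []).getD 0 (0, 0)) ((comCerts.getD 2 []).getD 0 (0, 0)) negU = true := by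
  decide +kernel

theorem gensM_ok : ∀ k : Fin 3, okM (gensM.getD k.1 (0, 0)) = true ∧ ∀ i : Fin 12,
    comb (gensC.getD k.1 []) (2 ^ i.1) < 4096 ∧
    conjOK (gensM.getD k.1 (0, 0)) ⟨2 ^ i.1 % 4096, Nat.mod_lt _ (by norm_num)⟩
      ⟨comb (gensC.getD k.1 []) (2 ^ i.1) % 4096, Nat.mod_lt _ (by norm_num)⟩ = true := by
  decide +kernel

theorem spans_ok : ∀ k : Fin 3, ∀ i : Fin 12,
    ((spans.getD k.1 []).getD i.1 []).all (fun x => decide (x < 4096) && pop 24 (comb rows x) == 4 * (k.1 + 2)) = true ∧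
    ((spans.getD k.1 []).getD i.1 []).foldr (fun x a => x ^^^ a) 0 = 2 ^ i.1 := by
  decide +kernel

end CfsgLib.CoZeroStd
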