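import Cfsg.Agent.Lib.CoZeroStd.CodeBasic
import Cfsg.Agent.Lib.CoZeroStd.WeakData
import Cfsg.Agent.Lib.Golay.SylowTwoCert
import Cfsg.Agent.Lib.Golay.SylowQuot.Data

/-!
The search showing that no elementary group of signed permutations of order `2 ^ 12` of the Sylow
subgroup has a nontrivial image on the points.
-/

set_option autoImplicit false
set_option maxRecDepth 100000
set_option Elab.async false

namespace CfsgLib.CoZeroStd

open CfsgLib.Golay

/-- the values of the code words at a point, as a functional -/
def colF (i : ℕ) : ℕ :=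
  (List.finRange 12).foldr (fun j a => if (rows.getD j.1 0).testBit i then a ||| 2 ^ j.1 else a) 0

/-- insertion into a reduced basis -/
def ins (B : List (ℕ × ℕ)) (f : ℕ) : List (ℕ × ℕ) :=
  let g := B.foldl (fun g e => if g.testBit e.1 then g ^^^ e.2 else g) f
  if g = 0 then B
  else (B.map fun e => (e.1, if e.2.testBit (Nat.log2 g) then e.2 ^^^ g else e.2)) ++ [(Nat.log2 g, g)]

/-- the functionals of one permutation: a bit equals the bit of its image -/
def fsOf (P : ℕ) : List ℕ := (List.range 24).map fun i => colF i ^^^ colF (ap P i)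

/-- reducedness -/
def redOK (B : List (ℕ × ℕ)) : Bool :=
  B.all fun e => decide (e.1 < 12) && decide (e.2 < 4096) && e.2.testBit e.1 &&
    B.all fun e' => e'.1 == e.1 || !e.2.testBit e'.1

/-- pivots are different -/
def pivOK (B : List (ℕ × ℕ)) : Bool := decide (B.map Prod.fst).Nodup

/-- the search -/
def srch : List (List ℕ × ℕ) → ℕ → List (ℕ × ℕ) → ℕ → Bool
  | L, i, B, cand =>
    (redOK B && pivOK B && decide (pop 191 cand + 1 < 2 ^ B.length)) ||
    match L with
    | [] => cand == 0
    | e :: es =>
      if cand.testBit i then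
        srch es (i + 1) (e.1.foldl ins B) (cand &&& e.2) && srch es (i + 1) B (cand ^^^ 2 ^ i)
      else srch es (i + 1) B cand

/-- the initial candidates -/
def allCand : ℕ := 2 ^ 191 - 1

theorem srch_ok : srch (invF.zip invM) 0 [] allCand = true := by decide +kernel

/-- spans: every functional of the data is a combination of those of its permutation -/
theorem fun_chk : ∀ i : Fin 191, (invF.getD i.1 []).all (fun f =>
    ((fsOf (invs.getD i.1 0)).foldl ins []).foldl (fun g e => if g.testBit e.1 then g ^^^ e.2 else g) f == 0) = true := by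
  decide +kernel

theorem com_chk : ((invs.zip invM).all fun e => invs.zipIdx.all fun q =>
    !((List.range 24).all fun k => ap e.1 (ap q.1 k) == ap q.1 (ap e.1 k)) || e.2.testBit q.2) = true := by
  decide +kernel

theorem list_facts : invs.length = 191 ∧ invF.length = 191 ∧ invM.length = 191 ∧
    invs.all validP = true := by decide +kernel

theorem inv_cover : (SylowTwo.els SylowQuot.pcs).all (fun P =>
    SylowTwo.eqP P SylowTwo.idP || !SylowTwo.eqP (mulP P P) SylowTwo.idP || invs.contains P) = true := by
  decide +kernel

theorem pcs_ok : SylowTwo.pcOK SylowQuot.pcs SylowQuot.pcc = true ∧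
    SylowQuot.pcs.all inM24 = true ∧ SylowQuot.pcs.length = 10 := by decide +kernel

theorem colF_basis : ∀ i : Fin 24, colF i.1 < 4096 ∧ ∀ j : Fin 12,
    dt (colF i.1) (2 ^ j.1) = if (comb rows (2 ^ j.1)).testBit i.1 then 1 else 0 := by
  decide +kernel


end CfsgLib.CoZeroStd
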