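import Cfsg.Agent.Lib.CoZeroStd.Mono
import Cfsg.Agent.Lib.CoZeroStd.WeakChecks

/-!
The sign changes are weakly closed: every elementary abelian subgroup of order `2 ^ 12` is conjugate
to the group of sign changes.
-/

set_option autoImplicit false
set_option maxRecDepth 100000
set_option linter.style.haveILetI false

namespace CfsgLib.CoZeroStd

open Cfsg CfsgLib.Golay CfsgLib.Leech
open scoped Pointwise

attribute [local irreducible] dL bL key keyL coord packB linL

/-- a functional vanishes on a set of coordinate vectors -/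
def Ann (D : Finset (Fin 4096)) (f : ℕ) : Prop := ∀ x ∈ D, dt f x.1 = 0

variable {D : Finset (Fin 4096)}

theorem Ann.xor {f g : ℕ} (hf : Ann D f) (hg : Ann D g) : Ann D (f ^^^ g) := fun x hx => by
  rw [dt_xor_left, hf x hx, hg x hx]; rfl

theorem ann_fold : ∀ (B : List (ℕ × ℕ)), (∀ e ∈ B, Ann D e.2) → ∀ f,
    (Ann D (B.foldl (fun g e => if g.testBit e.1 then g ^^^ e.2 else g) f) ↔ Ann D f)
  | [], _, f => Iff.rfl
  | e :: es, hB, f => by
    rw [List.foldl_cons, ann_fold es (fun a ha => hB a (List.mem_cons_of_mem _ ha))]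
    split_ifs
    · refine ⟨fun h => ?_, fun h => h.xor (hB e List.mem_cons_self)⟩
      have := h.xor (hB e List.mem_cons_self)
      rwa [Nat.xor_assoc, Nat.xor_self, Nat.xor_zero] at this
    · rfl

theorem ann_ins {B : List (ℕ × ℕ)} (hB : ∀ e ∈ B, Ann D e.2) {f : ℕ} (hf : Ann D f) :
    ∀ e ∈ ins B f, Ann D e.2 := by
  intro e he
  have hg := (ann_fold B hB f).2 hf
  simp only [ins] at he
  split_ifs at he
  · exact hB e he
  · rcases List.mem_append.1 he with h | h
    · obtain ⟨a, ha, rfl⟩ := List.mem_map.1 h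
      dsimp only
      split_ifs
      · exact (hB a ha).xor hg
      · exact hB a ha
    · rw [List.mem_singleton] at h
      subst h
      exact hg

theorem ann_foldl_ins : ∀ (fs : List ℕ) (B : List (ℕ × ℕ)), (∀ e ∈ B, Ann D e.2) → (∀ f ∈ fs, Ann D f) →
    ∀ e ∈ fs.foldl ins B, Ann D e.2
  | [], _, hB, _ => hB
  | f :: fs, B, hB, hf => by
    rw [List.foldl_cons]
    exact ann_foldl_ins fs _ (ann_ins hB (hf f List.mem_cons_self))
      (fun a ha => hf a (List.mem_cons_of_mem _ ha))

theorem comb_congr : ∀ (l : List ℕ) (x y : ℕ),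
    (∀ i, l.getD i 0 ≠ 0 → x.testBit i = y.testBit i) → comb l x = comb l y
  | [], _, _, _ => rfl
  | r :: rs, x, y, h => by
    rw [comb, comb, comb_congr rs (x / 2) (y / 2) fun i hi => by
      rw [← Nat.testBit_succ, ← Nat.testBit_succ]; exact h (i + 1) hi]
    by_cases hr : r = 0
    · simp [hr]
    · have := h 0 hr
      simp only [Nat.testBit_zero, decide_eq_decide] at this
      by_cases hx : x % 2 = 1
      · rw [if_pos hx, if_pos (this.1 hx)]
      · rw [if_neg hx, if_neg fun hy => hx (this.2 hy)]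

theorem dt_congr (f x y : ℕ) (h : ∀ i, i < 12 → f.testBit i = true → x.testBit i = y.testBit i) :
    dt f x = dt f y := by
  refine comb_congr _ x y fun i hi => ?_
  by_cases hn : i < 12
  · refine h i hn ?_
    by_contra hb
    rw [bits, List.getD_eq_getElem?_getD, List.getElem?_map, List.getElem?_range hn] at hi
    simp [hb] at hi
  · exact absurd (List.getD_eq_default _ _ (by simp [bits]; omega)) hi

/-- the bound on the common zeros of a reduced basis -/
theorem card_le_of_red {B : List (ℕ × ℕ)} (hB : redOK B = true) (hp : pivOK B = true)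
    (hA : ∀ e ∈ B, Ann D e.2) : D.card * 2 ^ B.length ≤ 4096 := by
  classical
  simp only [redOK, List.all_eq_true, Bool.and_eq_true, decide_eq_true_eq, Bool.or_eq_true, beq_iff_eq,
    Bool.not_eq_true'] at hB
  simp only [pivOK, decide_eq_true_eq] at hp
  set S : Finset ℕ := (B.map Prod.fst).toFinset with hS
  have hSc : S.card = B.length := by rw [hS, List.toFinset_card_of_nodup hp, List.length_map]
  have hSsub : S ⊆ Finset.range 12 := by
    intro p h
    rw [hS, List.mem_toFinset, List.mem_map] at h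
    obtain ⟨e, he, rfl⟩ := h
    exact Finset.mem_range.2 (hB e he).1.1.1
  let T := {i : ℕ // i ∈ Finset.range 12 \ S}
  have hinj : Set.InjOn (fun (x : Fin 4096) (i : T) => x.1.testBit i.1) ↑D := by
    intro x hx y hy h
    refine Fin.ext (Nat.eq_of_testBit_eq fun p => ?_)
    by_cases hp12 : p < 12
    · by_cases hpS : p ∈ S
      · have hm : p ∈ (B.map Prod.fst) := by rw [hS, List.mem_toFinset] at hpS; exact hpS
        obtain ⟨e, he, rfl⟩ := List.mem_map.1 hm
        obtain ⟨⟨⟨-, hlt⟩, hpe⟩, hoth⟩ := hB e he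
        by_contra hne
        have e1 : dt e.2 x.1 = dt e.2 (y.1 ^^^ 2 ^ e.1) := by
          refine dt_congr _ _ _ fun i hi hf => ?_
          rw [Nat.testBit_xor, Nat.testBit_two_pow]
          by_cases hie : e.1 = i
          · subst hie
            revert hne
            cases x.1.testBit e.1 <;> cases y.1.testBit e.1 <;> simp
          · have hiS : i ∉ S := by
              intro hmem
              rw [hS, List.mem_toFinset, List.mem_map] at hmem
              obtain ⟨e', he', rfl⟩ := hmem
              rcases hoth e' he' with h1 | h1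
              · exact hie h1.symm
              · rw [hf] at h1; exact Bool.noConfusion h1
            have := congrFun h ⟨i, Finset.mem_sdiff.2 ⟨Finset.mem_range.2 hi, hiS⟩⟩
            simp only at this
            simp [hie, this]
        rw [dt_xor, hA e he x hx, hA e he y hy, dt_pow _ _ hp12, if_pos hpe] at e1
        simp at e1
      · exact congrFun h ⟨p, Finset.mem_sdiff.2 ⟨Finset.mem_range.2 hp12, hpS⟩⟩
    · rw [Nat.testBit_lt_two_pow, Nat.testBit_lt_two_pow]
      · exact lt_of_lt_of_le y.2 (le_trans (by norm_num : 4096 ≤ 2 ^ 12)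
          (Nat.pow_le_pow_right (by norm_num) (Nat.le_of_not_lt hp12)))
      · exact lt_of_lt_of_le x.2 (le_trans (by norm_num : 4096 ≤ 2 ^ 12)
          (Nat.pow_le_pow_right (by norm_num) (Nat.le_of_not_lt hp12)))
  have h1 := Finset.card_le_card_of_injOn (fun (x : Fin 4096) (i : T) => x.1.testBit i.1)
    (fun x _ => Finset.mem_univ _) hinj
  rw [Finset.card_univ, Fintype.card_fun, Fintype.card_bool, Fintype.card_coe, Finset.card_sdiff_of_subset hSsub,
    Finset.card_range, hSc] at h1
  have hb : B.length ≤ 12 := by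
    rw [← hSc]; simpa using Finset.card_le_card hSsub
  calc D.card * 2 ^ B.length ≤ 2 ^ (12 - B.length) * 2 ^ B.length := Nat.mul_le_mul_right _ h1
    _ = 4096 := by rw [← pow_add, Nat.sub_add_cancel hb]; norm_num

theorem countP_le_pop (I : Finset ℕ) (cand : ℕ) (h : ∀ j ∈ I, j < 191 ∧ cand.testBit j = true) :
    I.card ≤ pop 191 cand := by
  rw [← countP_testBit, List.countP_eq_length_filter, ← List.toFinset_card_of_nodup (List.nodup_range.filter _)]
  exact Finset.card_le_card fun j hj => by simp [(h j hj).1, (h j hj).2]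

/-- soundness of the search -/
theorem srch_sound {D : Finset (Fin 4096)} {I : Finset ℕ} (hI : ∀ j ∈ I, j < 191)
    (hcard : 4096 ≤ (I.card + 1) * D.card) :
    ∀ (L : List (List ℕ × ℕ)) (i : ℕ) (B : List (ℕ × ℕ)) (cand : ℕ),
    (∀ k e, L[k]? = some e → i + k ∈ I → (∀ f ∈ e.1, Ann D f) ∧ ∀ j ∈ I, e.2.testBit j = true) →
    (∀ e ∈ B, Ann D e.2) → (∀ j ∈ I, cand.testBit j = true) → srch L i B cand = true → I = ∅
  | L, i, B, cand, hL, hB, hc, h => by
    rw [srch.eq_def, Bool.or_eq_true] at h
    rcases h with h | h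
    · exfalso
      simp only [Bool.and_eq_true, decide_eq_true_eq] at h
      have h1 := card_le_of_red h.1.1 h.1.2 hB
      have h2 := countP_le_pop I cand fun j hj => ⟨hI j hj, hc j hj⟩
      have h3 : I.card + 1 < 2 ^ B.length := lt_of_le_of_lt (by omega) h.2
      have h4 : 0 < D.card := by
        by_contra h0
        have : D.card = 0 := by omega
        rw [this, mul_zero] at hcard
        omega
      have := Nat.mul_lt_mul_of_pos_right h3 h4
      rw [mul_comm (2 ^ B.length)] at this
      omega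
    · match L with
      | [] =>
        simp only [beq_iff_eq] at h
        refine Finset.eq_empty_of_forall_notMem fun j hj => ?_
        have := hc j hj
        rw [h, Nat.zero_testBit] at this
        exact Bool.noConfusion this
      | e :: es =>
        have hL' : ∀ k e', es[k]? = some e' → i + 1 + k ∈ I →
            (∀ f ∈ e'.1, Ann D f) ∧ ∀ j ∈ I, e'.2.testBit j = true := fun k e' hk hm =>
          hL (k + 1) e' (by rw [List.getElem?_cons_succ, hk]) (by rwa [show i + (k + 1) = i + 1 + k by omega])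
        simp only at h
        split_ifs at h
        · rw [Bool.and_eq_true] at h
          by_cases hi : i ∈ I
          · obtain ⟨h1, h2⟩ := hL 0 e rfl hi
            exact srch_sound hI hcard es (i + 1) _ _ hL' (ann_foldl_ins e.1 B hB h1)
              (fun j hj => by rw [Nat.testBit_and, hc j hj, h2 j hj]; rfl) h.1
          · exact srch_sound hI hcard es (i + 1) B _ hL' hB
              (fun j hj => by
                rw [Nat.testBit_xor, hc j hj, Nat.testBit_two_pow, decide_eq_false fun e : i = j => hi (e ▸ hj)]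
                rfl) h.2
        · exact srch_sound hI hcard es (i + 1) B cand hL' hB hc h

theorem colF_spec (i : Fin 24) (x : Fin 4096) : colF i.1 < 4096 ∧
    dt (colF i.1) x.1 = if (comb rows x.1).testBit i.1 then 1 else 0 := by
  have hz : ∀ l : List ℕ, comb l 0 = 0 := fun l => by
    have := comb_xor l 0 0; simpa using this
  refine ⟨(colF_basis i).1, ?_⟩
  rw [comb_unique 12 (fun x => dt (colF i.1) x) (hz _) (fun a b _ _ => dt_xor _ a b) x.1 x.2,
    comb_unique 12 (fun x => if (comb rows x).testBit i.1 then 1 else 0) (by simp [hz])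
      (fun a b _ _ => colF_lin_aux a b i.1) x.1 x.2]
  exact congrArg (fun l => comb l x.1)
    (List.map_congr_left fun j hj => (colF_basis i).2 ⟨j, List.mem_range.1 hj⟩)

/-- the signed permutations over the Sylow subgroup -/
noncomputable def TT : Subgroup ↥Co0 where
  carrier := {g | ∃ (σ : Equiv.Perm GolayPt) (d : Finset GolayPt) (hσ : σ ∈ M24) (hd : d ∈ CS),
    σ ∈ SylowTwo.HS SylowQuot.pcs ∧ g = mono hσ hd}
  one_mem' := ⟨1, ∅, one_mem _, empty_mem_CS, one_mem _, one_eq_mono⟩
  mul_mem' := fun {a b} ⟨σ, d, hσ, hd, hs, ha⟩ ⟨σ', d', hσ', hd', hs', hb⟩ => by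
    obtain ⟨e, he, h⟩ := mono_mul_perm hσ hd hσ' hd'
    exact ⟨σ' * σ, e, mul_mem hσ' hσ, he, mul_mem hs' hs, by rw [ha, hb, h]⟩
  inv_mem' := fun {a} ⟨σ, d, hσ, hd, hs, ha⟩ => by
    obtain ⟨e, he, h⟩ := inv_mono_perm hσ hd
    exact ⟨σ⁻¹, e, inv_mem hσ, he, inv_mem hs, by rw [ha, h]⟩

theorem HS_le : SylowTwo.HS SylowQuot.pcs ≤ M24 := by
  rw [SylowTwo.HS, Subgroup.closure_le]
  rintro _ ⟨P, hP, rfl⟩
  exact toPerm_mem_M24 (List.all_eq_true.1 pcs_ok.2.1 P hP)

theorem natCard_TT : Nat.card TT = 2 ^ 22 := by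
  let f : ↥(SylowTwo.HS SylowQuot.pcs) × Fin 4096 → ↥TT := fun p =>
    ⟨mono (HS_le p.1.2) (cw_mem p.2), p.1, _, HS_le p.1.2, cw_mem p.2, p.1.2, rfl⟩
  have hf : Function.Bijective f := by
    refine ⟨fun p q h => ?_, fun g => ?_⟩
    · obtain ⟨h1, h2⟩ := mono_inj (congrArg Subtype.val h)
      exact Prod.ext (Subtype.ext h1) (cw_inj (dec_inj (cw_facts _).1 (cw_facts _).1 h2))
    · obtain ⟨σ, d, hσ, hd, hs, hg⟩ := g.2
      obtain ⟨x, hx⟩ := exists_cw_set hd
      exact ⟨(⟨σ, hs⟩, x), Subtype.ext (by rw [hg]; exact mono_set_congr _ _ _ hx)⟩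
  rw [← Nat.card_eq_of_bijective f hf, Nat.card_prod, SylowTwo.card_HS pcs_ok.1, pcs_ok.2.2, Nat.card_fin]
  norm_num

/-- conjugation into the signed permutations over the Sylow subgroup -/
theorem exists_conj_TT {F : Subgroup ↥Co0} (hF : IsPGroup 2 F) :
    ∃ l : ↥Co0, ∀ f ∈ F, l * f * l⁻¹ ∈ TT := by
  haveI := finite_Co0
  haveI : Fact (Nat.Prime 2) := ⟨Nat.prime_two⟩
  have hfac : (8315553613086720000 : ℕ).factorization 2 = 22 := by
    rw [show (8315553613086720000 : ℕ) = 2 ^ 22 * 1982582476875 by norm_num,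
      Nat.factorization_mul (by norm_num) (by norm_num), Finsupp.add_apply, Nat.factorization_pow,
      Nat.factorization_eq_zero_of_not_dvd (show ¬ 2 ∣ 1982582476875 by norm_num)]
    simp [Nat.prime_two.factorization_self]
  let S : Sylow 2 ↥Co0 := Sylow.ofCard TT (by rw [natCard_TT, natCard_Co0, hfac])
  obtain ⟨P, hP⟩ := hF.exists_le_sylow
  obtain ⟨l, hl⟩ := MulAction.exists_smul_eq ↥Co0 P S
  refine ⟨l, fun f hf => ?_⟩
  have hm : l * f * l⁻¹ ∈ (S : Subgroup ↥Co0) := by
    rw [← hl, Sylow.coe_subgroup_smul]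
    exact ⟨f, hP hf, rfl⟩
  exact hm

theorem mono_comm_sign {σ : Equiv.Perm GolayPt} {d : Finset GolayPt} {hσ : σ ∈ M24} {hd : d ∈ CS}
    {x : Fin 4096} (h : mono hσ hd * sg x = sg x * mono hσ hd) (i : GolayPt) :
    σ i ∈ dec (cw x) ↔ i ∈ dec (cw x) := by
  have e := congrArg (fun g : ↥Co0 => ((g • eightL (σ i) : ↥leechLattice) : GolayPt → ℤ) i) h
  simp only [mul_smul, sg, mono_apply, Equiv.Perm.one_apply] at e
  have he : (eightL (σ i) : GolayPt → ℤ) (σ i) = 8 := by simp [eightL, eight]
  rw [he] at e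
  by_cases h1 : σ i ∈ dec (cw x) <;> by_cases h2 : i ∈ dec (cw x) <;> by_cases h3 : i ∈ d <;>
    simp [h1, h2, h3] at e ⊢

/-- every elementary abelian subgroup of order `2 ^ 12` is conjugate to the sign changes -/
theorem exists_conj_sign {F : Subgroup ↥Co0} (hcard : Nat.card F = 4096)
    (hsq : ∀ f ∈ F, f * f = 1) : ∃ l : ↥Co0, ∀ f ∈ F, l * f * l⁻¹ ∈ signGroup := by
  classical
  haveI := finite_Co0
  haveI : Fact (Nat.Prime 2) := ⟨Nat.prime_two⟩
  obtain ⟨l, hl⟩ := exists_conj_TT (F := F) (IsPGroup.of_card (n := 12) (by rw [hcard]; norm_num))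
  refine ⟨l, ?_⟩
  set F' : Subgroup ↥Co0 := F.map (MulAut.conj l).toMonoidHom with hF'
  have hle : F' ≤ TT := by
    rintro _ ⟨f, hf, rfl⟩; exact hl f hf
  have hsq' : ∀ f ∈ F', f * f = 1 := by
    rintro _ ⟨f, hf, rfl⟩
    rw [← map_mul, hsq f hf, map_one]
  have hcomm : ∀ a ∈ F', ∀ b ∈ F', a * b = b * a := by
    intro a ha b hb
    have h1 := hsq' _ (mul_mem ha hb)
    have ia : a⁻¹ = a := inv_eq_of_mul_eq_one_right (hsq' a ha)
    have ib : b⁻¹ = b := inv_eq_of_mul_eq_one_right (hsq' b hb)
    calc a * b = (a * b)⁻¹ := (inv_eq_of_mul_eq_one_right h1).symm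
      _ = b * a := by rw [mul_inv_rev, ia, ib]
  have hcard' : Nat.card F' = 4096 := by
    rw [hF', Nat.card_congr (Subgroup.equivMapOfInjective F _ (MulAut.conj l).injective).toEquiv.symm, hcard]
  let Fs : Finset ↥Co0 := (F' : Set ↥Co0).toFinite.toFinset
  have hFs : ∀ g, g ∈ Fs ↔ g ∈ F' := fun g => by simp [Fs]
  let π : ↥Co0 → Equiv.Perm GolayPt := fun g =>
    if h : g ∈ TT then h.choose else 1
  have hπ : ∀ g ∈ TT, ∃ (d : Finset GolayPt) (hσ : π g ∈ M24) (hd : d ∈ CS),
      π g ∈ SylowTwo.HS SylowQuot.pcs ∧ g = mono hσ hd := by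
    intro g hg
    have := hg.choose_spec
    simp only [π, dif_pos hg]
    exact this
  let D : Finset (Fin 4096) := Finset.univ.filter fun x => sg x ∈ F'
  let pI : ℕ → Equiv.Perm GolayPt := fun j => toPerm (invs.getD j 0)
  let I : Finset ℕ := (Finset.range 191).filter fun j => ∃ g ∈ F', π g = pI j
  have himg : Fs.image π ⊆ insert 1 (I.image pI) := by
    intro σ hσ
    obtain ⟨g, hg, rfl⟩ := Finset.mem_image.1 hσ
    rw [hFs] at hg
    obtain ⟨d, hs, hd, hH, he⟩ := hπ g (hle hg)
    obtain ⟨P, hP, hPe⟩ := SylowTwo.exists_els pcs_ok.1 _ hH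
    have hv : validP P = true :=
      (SylowTwo.els_mem (SylowTwo.validP_of_pcOK pcs_ok.1) P hP).1
    have h2 : π g * π g = 1 := by
      have := hsq' g hg
      rw [he, one_eq_mono] at this
      exact (perm_mul this).symm
    have hc := List.all_eq_true.1 inv_cover P hP
    simp only [Bool.or_eq_true, Bool.not_eq_true'] at hc
    rcases hc with (h | h) | h
    · rw [hPe, SylowTwo.toPerm_eq_of_eqP hv SylowTwo.validP_idP h, SylowTwo.toPerm_idP]
      exact Finset.mem_insert_self _ _
    · exfalso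
      have h' := SylowTwo.eqP_of_toPerm_eq (validP_mulP hv hv) SylowTwo.validP_idP
        (by rw [toPerm_mulP hv hv, ← hPe, h2, SylowTwo.toPerm_idP])
      rw [h] at h'
      exact Bool.noConfusion h'
    · obtain ⟨j, hj, hje⟩ := List.mem_iff_getElem.1 (by simpa using h)
      refine Finset.mem_insert_of_mem (Finset.mem_image.2 ⟨j, Finset.mem_filter.2
        ⟨Finset.mem_range.2 (list_facts.1 ▸ hj), g, hg, ?_⟩, ?_⟩)
      · rw [hPe]; show _ = toPerm _; rw [List.getD_eq_getElem _ _ hj, hje]
      · rw [hPe]; show toPerm _ = _; rw [List.getD_eq_getElem _ _ hj, hje]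
  have hfib : ∀ σ ∈ Fs.image π, (Fs.filter fun g => π g = σ).card ≤ D.card := by
    intro σ hσ
    obtain ⟨g0, hg0, rfl⟩ := Finset.mem_image.1 hσ
    rw [hFs] at hg0
    have hx : ∀ g ∈ F', π g = π g0 → ∃ x, sg x = g0⁻¹ * g := by
      intro g hg he
      obtain ⟨σ, d, hs, hd, hH, hh⟩ := hle (mul_mem (inv_mem hg0) hg)
      obtain ⟨d1, hs1, hd1, -, h1⟩ := hπ g (hle hg)
      obtain ⟨d0, hs0, hd0, -, h0⟩ := hπ g0 (hle hg0)
      have e : g0 * (g0⁻¹ * g) = g := mul_inv_cancel_left g0 g
      rw [hh] at e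
      nth_rewrite 1 [h0] at e
      rw [h1] at e
      have hp := perm_mul e
      rw [he] at hp
      have hσ1 : σ = 1 := mul_eq_right.1 hp.symm
      subst hσ1
      obtain ⟨x, hx⟩ := exists_cw_set hd
      exact ⟨x, by rw [hh]; exact mono_set_congr _ _ _ hx⟩
    choose! xf hxf using hx
    refine Finset.card_le_card_of_injOn xf (fun g hg => ?_) (fun a ha b hb e => ?_)
    · obtain ⟨h1, h2⟩ := Finset.mem_filter.1 hg
      rw [hFs] at h1
      exact Finset.mem_filter.2 ⟨Finset.mem_univ _, by rw [hxf g h1 h2]; exact mul_mem (inv_mem hg0) h1⟩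
    · obtain ⟨a1, a2⟩ := Finset.mem_filter.1 ha
      obtain ⟨b1, b2⟩ := Finset.mem_filter.1 hb
      rw [hFs] at a1 b1
      have := hxf a a1 a2
      rw [e, hxf b b1 b2] at this
      exact mul_left_cancel this.symm
  have hcnt : 4096 ≤ (I.card + 1) * D.card := by
    have h1 := Finset.card_le_mul_card_image (f := π) Fs D.card hfib
    have h2 : Fs.card = 4096 := by
      rw [← hcard']
      exact (Set.ncard_eq_toFinset_card _ _).symm.trans (Nat.card_coe_set_eq _).symm
    rw [h2] at h1
    refine h1.trans ?_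
    rw [mul_comm]
    refine Nat.mul_le_mul_right _ ((Finset.card_le_card himg).trans ?_)
    exact (Finset.card_insert_le _ _).trans (Nat.add_le_add_right Finset.card_image_le 1)
  have hI0 : I = ∅ := by
    refine srch_sound (D := D) (fun j hj => Finset.mem_range.1 (Finset.mem_filter.1 hj).1) hcnt _ 0 [] allCand
      (fun k e hk hkI => ?_) (by simp)
      (fun j hj => by
        rw [allCand, Nat.testBit_two_pow_sub_one]
        simp [Finset.mem_range.1 (Finset.mem_filter.1 hj).1]) srch_ok
    rw [zero_add] at hkI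
    obtain ⟨hk1, g, hg, hgk⟩ := Finset.mem_filter.1 hkI
    rw [Finset.mem_range] at hk1
    obtain ⟨-, hlF, hlM, hval⟩ := list_facts
    have hlen := list_facts.1
    have hkl : k < invs.length := hlen ▸ hk1
    have hvk : validP (invs.getD k 0) = true := by
      rw [List.getD_eq_getElem _ _ hkl]; exact List.all_eq_true.1 hval _ (List.getElem_mem hkl)
    rw [List.getElem?_zip_eq_some] at hk
    have hF1 : invF.getD k [] = e.1 := by rw [List.getD_eq_getElem?_getD, hk.1]; rfl
    have hM1 : invM.getD k 0 = e.2 := by rw [List.getD_eq_getElem?_getD, hk.2]; rfl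
    obtain ⟨d, hs, hd, -, he⟩ := hπ g (hle hg)
    refine ⟨?_, fun j hj => ?_⟩
    · have hbase : ∀ f ∈ fsOf (invs.getD k 0), Ann D f := by
        intro f hf x hx
        obtain ⟨i, hi, rfl⟩ := List.mem_map.1 hf
        rw [List.mem_range] at hi
        have hap : ap (invs.getD k 0) i < 24 := validP_lt hvk hi
        rw [dt_xor_left, (colF_spec ⟨i, hi⟩ x).2, (colF_spec ⟨_, hap⟩ x).2]
        have hxF := (Finset.mem_filter.1 hx).2
        have hc := hcomm g hg _ hxF
        rw [he] at hc
        have hiff := mono_comm_sign hc (pt i)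
        simp only [hgk, pI] at hiff
        rw [mem_dec, mem_dec, idx_toPerm hvk, idx_pt i hi, cw] at hiff
        show (if (comb rows x.1).testBit i then 1 else 0) ^^^
          (if (comb rows x.1).testBit (ap (invs.getD k 0) i) then 1 else 0) = 0
        rw [Bool.eq_iff_iff.2 hiff]
        exact Nat.xor_self _
      intro f hf
      have h0 := List.all_eq_true.1 (fun_chk ⟨k, hk1⟩) f (hF1 ▸ hf)
      rw [beq_iff_eq] at h0
      refine (ann_fold _ (ann_foldl_ins _ [] (by simp) hbase) f).1 ?_
      rw [h0]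
      intro x _
      have := dt_xor_left 0 0 x.1
      simpa using this
    · obtain ⟨hj1, g', hg', hgj⟩ := Finset.mem_filter.1 hj
      rw [Finset.mem_range] at hj1
      have hjl : j < invs.length := hlen ▸ hj1
      have hvj : validP (invs.getD j 0) = true := by
        rw [List.getD_eq_getElem _ _ hjl]; exact List.all_eq_true.1 hval _ (List.getElem_mem hjl)
      obtain ⟨d', hs', hd', -, he'⟩ := hπ g' (hle hg')
      obtain ⟨e1, he1, h1⟩ := mono_mul_perm hs hd hs' hd'
      obtain ⟨e2, he2, h2⟩ := mono_mul_perm hs' hd' hs hd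
      have hcm := hcomm g hg g' hg'
      rw [he, he', h1, h2] at hcm
      have hp := (mono_inj hcm).1
      rw [hgk, hgj] at hp
      have hkM : k < invM.length := by rw [hlM]; exact hk1
      have hz : (invs.getD k 0, e.2) ∈ invs.zip invM := by
        rw [← hM1, List.getD_eq_getElem _ _ hkl, List.getD_eq_getElem _ _ hkM]
        exact List.mem_iff_getElem.2 ⟨k, by simp [hlen, hlM, hk1], by rw [List.getElem_zip]⟩
      have hq : (invs.getD j 0, j) ∈ invs.zipIdx := by
        rw [List.getD_eq_getElem _ _ hjl]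
        exact List.mem_zipIdx_iff_getElem?.2 (List.getElem?_eq_getElem hjl)
      have hb := List.all_eq_true.1 (List.all_eq_true.1 com_chk _ hz) _ hq
      simp only [Bool.or_eq_true, Bool.not_eq_true'] at hb
      rcases hb with hb | hb
      · exfalso
        rw [List.all_eq_false] at hb
        obtain ⟨i, hi, hne⟩ := hb
        rw [List.mem_range] at hi
        refine hne (beq_iff_eq.2 ?_)
        have := congrArg (fun q : Equiv.Perm GolayPt => idx (q (pt i))) hp
        simp only [pI, Equiv.Perm.mul_apply, idx_toPerm hvk, idx_toPerm hvj, idx_pt i hi] at this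
        exact this.symm
      · exact hb
  intro f hf
  have hf' : l * f * l⁻¹ ∈ F' := ⟨f, hf, rfl⟩
  obtain ⟨d, hs, hd, -, he⟩ := hπ _ (hle hf')
  have h := himg (Finset.mem_image.2 ⟨_, (hFs _).2 hf', rfl⟩)
  rw [hI0, Finset.image_empty, Finset.mem_insert] at h
  simp only [Finset.notMem_empty, or_false] at h
  rw [he]
  exact ⟨d, hd, by congr 1⟩

end CfsgLib.CoZeroStd
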