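import Cfsg.Agent.Lib.CoZeroStd.CodeOrbit
import Cfsg.Agent.Lib.CoZeroStd.Weak
import Cfsg.Agent.Lib.CoZeroStd.Invol
import Cfsg.Agent.S2069
import Cfsg.Agent.Lib.Invol.SwapPair
import Cfsg.Prelude.Def_Local

/-!
A standard subgroup isomorphic to the lattice group with cyclic Sylow 2-subgroups in its centralizer
is normal: its central involution is isolated.
-/

set_option autoImplicit false
set_option maxRecDepth 100000
set_option linter.style.haveILetI false
set_option linter.unusedSectionVars false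

namespace CfsgLib.CoZeroStd

open Cfsg CfsgLib.Golay CfsgLib.Leech
open scoped Pointwise

attribute [local irreducible] dL bL key keyL coord packB linL

variable {G : Type*} [Group G] [Finite G] {L : Subgroup G} (e : ↥L ≃* ↥Co0)

/-- the embedding -/
noncomputable def emb : ↥Co0 →* G := L.subtype.comp e.symm.toMonoidHom

theorem emb_inj : Function.Injective (emb e) :=
  Subtype.val_injective.comp e.symm.injective

theorem emb_mem (g : ↥Co0) : emb e g ∈ L := (e.symm g).2

theorem exists_emb {x : G} (h : x ∈ L) : ∃ g, emb e g = x :=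
  ⟨e ⟨x, h⟩, by simp [emb]⟩

/-- the commutator subgroup of a group with a normal 2-complement and cyclic Sylow 2-subgroup is odd -/
theorem exists_odd_normal {K : Type*} [Group K] [Finite K] (P : Sylow 2 K) (hP : IsCyclic ↥(P : Subgroup K)) :
    ∃ N : Subgroup K, N.Normal ∧ Odd (Nat.card N) ∧ ∀ a b : K, a * b * a⁻¹ * b⁻¹ ∈ N := by
  haveI : Fact (Nat.Prime 2) := ⟨Nat.prime_two⟩
  obtain ⟨Q, N, hN, hc⟩ := ZStar.hasNormalPComplement_of_cyclic P hP
  haveI := hN
  haveI : IsCyclic ↥(Q : Subgroup K) := isCyclic_of_surjective (Sylow.equiv P Q) (Sylow.equiv P Q).surjective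
  refine ⟨N, hN, ?_, fun a b => ?_⟩
  · rw [← Nat.not_even_iff_odd]
    intro hev
    have hidx := hc.index_eq_card
    have h := Q.not_dvd_index
    rw [hidx] at h
    exact h hev.two_dvd
  · have hq : ∀ a : K, ∃ p : ↥(Q : Subgroup K), QuotientGroup.mk' N (p : K) = QuotientGroup.mk' N a := by
      intro a
      obtain ⟨⟨⟨n, hn⟩, p⟩, h⟩ := hc.2 a
      refine ⟨p, ?_⟩
      simp only at h
      rw [← h, map_mul, show QuotientGroup.mk' N n = 1 from (QuotientGroup.eq_one_iff _).2 hn, one_mul]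
    obtain ⟨p, hp⟩ := hq a
    obtain ⟨q, hq'⟩ := hq b
    refine (QuotientGroup.eq_one_iff _).1 ?_
    show QuotientGroup.mk' N (a * b * a⁻¹ * b⁻¹) = 1
    rw [map_mul, map_mul, map_mul, map_inv, map_inv, ← hp, ← hq', ← map_mul, ← map_inv, ← map_inv, ← map_mul,
      ← map_mul]
    have : (p : K) * q = q * p := congrArg Subtype.val
      ((IsCyclic.commGroup (α := ↥(Q : Subgroup K))).mul_comm p q)
    rw [this, mul_inv_cancel_right, mul_inv_cancel, map_one]


/-- the elements normalizing the embedded sign changes -/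
noncomputable def signNorm : Subgroup G where
  carrier := {g | ∀ y : Fin 4096, ∃ y', g * emb e (sg y) * g⁻¹ = emb e (sg y')}
  one_mem' := fun y => ⟨y, by group⟩
  mul_mem' := fun {a b} ha hb y => by
    obtain ⟨y1, h1⟩ := hb y
    obtain ⟨y2, h2⟩ := ha y1
    exact ⟨y2, by rw [← h2, ← h1]; group⟩
  inv_mem' := fun {a} ha y => by
    choose f hf using ha
    have hinj : Function.Injective f := fun u v h => by
      have h1 := (hf u).trans ((congrArg (fun t => emb e (sg t)) h).trans (hf v).symm)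
      exact sg_inj (emb_inj e (mul_left_cancel (mul_right_cancel h1)))
    obtain ⟨x, hx⟩ := (Finite.injective_iff_surjective.1 hinj) y
    exact ⟨x, by rw [← hx, ← hf x]; group⟩

/-- its action on coordinate vectors -/
noncomputable def act (g : ↥(signNorm e)) (y : Fin 4096) : Fin 4096 := (g.2 y).choose

theorem act_spec (g : ↥(signNorm e)) (y : Fin 4096) :
    (g : G) * emb e (sg y) * (g : G)⁻¹ = emb e (sg (act e g y)) := (g.2 y).choose_spec

theorem act_unique {g : ↥(signNorm e)} {y y' : Fin 4096}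
    (h : (g : G) * emb e (sg y) * (g : G)⁻¹ = emb e (sg y')) : act e g y = y' :=
  sg_inj (emb_inj e ((act_spec e g y).symm.trans h))

noncomputable instance instActSignNorm : MulAction ↥(signNorm e) (Fin 4096) where
  smul := act e
  one_smul y := act_unique e (by simp)
  mul_smul a b y := act_unique e (by
    show ((a * b : ↥(signNorm e)) : G) * _ * _ = emb e (sg (act e a (act e b y)))
    rw [← act_spec e a, ← act_spec e b, Subgroup.coe_mul]; group)

/-- elements moving the negation inside the embedded sign changes do not exist -/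
theorem conj_eq_of_signNorm (hdec : ∀ g : G, g * emb e negAut = emb e negAut * g →
      ∃ k, (∀ x, k * emb e x = emb e x * k) ∧ ∃ a, g = k * emb e a) {h : G} (hh : h ∈ signNorm e) :
    h * emb e negAut * h⁻¹ = emb e negAut := by
  haveI : Finite ↥(signNorm e) := Subtype.finite
  have hlin : ∀ (g : ↥(signNorm e)) (x y : Fin 4096), g • xr x y = xr (g • x) (g • y) := by
    intro g x y
    refine act_unique e ?_
    show _ = emb e (sg (xr (act e g x) (act e g y)))
    rw [← sg_mul x y, ← sg_mul (act e g x) (act e g y), map_mul, map_mul, ← act_spec e g x, ← act_spec e g y]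
    group
  have hgen : ∀ k : Fin 3, ∃ g : ↥(signNorm e), ∀ x : Fin 4096, (g • x).1 = comb (gensC.getD k.1 []) x.1 := by
    intro k
    obtain ⟨g, hg⟩ := gen_conj k
    have hgm : ∀ x, ∃ y : Fin 4096, y.1 = comb (gensC.getD k.1 []) x.1 ∧
        emb e g * emb e (sg x) * (emb e g)⁻¹ = emb e (sg y) := fun x => by
      obtain ⟨y, hy, h⟩ := hg x
      exact ⟨y, hy, by rw [← h, map_mul, map_mul, map_inv]⟩
    refine ⟨⟨emb e g, fun x => ?_⟩, fun x => ?_⟩
    · obtain ⟨y, -, h⟩ := hgm x
      exact ⟨y, h⟩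
    · obtain ⟨y, hy, h⟩ := hgm x
      rw [← hy]
      exact congrArg Fin.val (act_unique e h)
  have hwt : ∀ g : ↥(signNorm e), g • om = om → ∀ x, W (g • x) = W x := by
    intro g hg x
    have h1 := act_spec e g om
    rw [show act e g om = om from hg, sg_om] at h1
    obtain ⟨k, hk, a, hga⟩ := hdec g (mul_inv_eq_iff_eq_mul.1 h1)
    have h2 := act_spec e g x
    rw [hga] at h2
    refine (weight_eq_of_conj (g := a) (emb_inj e ?_)).symm
    show emb e (a * sg x * a⁻¹) = emb e (sg (act e g x))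
    rw [← h2, map_mul, map_mul, map_inv]
    calc emb e a * emb e (sg x) * (emb e a)⁻¹
        = emb e (a * sg x * a⁻¹) * (k * k⁻¹) := by rw [map_mul, map_mul, map_inv, mul_inv_cancel, mul_one]
      _ = k * emb e (a * sg x * a⁻¹) * k⁻¹ := by rw [← mul_assoc, ← hk]
      _ = _ := by rw [map_mul, map_mul, map_inv]; group
  have := omega_fixed hlin hgen hwt ⟨h, hh⟩
  have h1 := act_spec e ⟨h, hh⟩ om
  rw [show act e ⟨h, hh⟩ om = om from this, sg_om] at h1
  exact h1

theorem natCard_sign : Nat.card signGroup = 4096 := by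
  have hb : Function.Bijective (fun x : Fin 4096 => (⟨sg x, mem_sign_iff.2 ⟨x, rfl⟩⟩ : ↥signGroup)) := by
    refine ⟨fun x y h => sg_inj (congrArg Subtype.val h), fun g => ?_⟩
    obtain ⟨x, hx⟩ := mem_sign_iff.1 g.2
    exact ⟨x, Subtype.ext hx.symm⟩
  rw [← Nat.card_eq_of_bijective _ hb, Nat.card_fin]

include e in
/-- the component has no homomorphism onto a nontrivial part of its centre -/
theorem center_hom_trivial (hqs : Cfsg.IsQuasisimple L) (f : ↥Co0 →* ↥(Subgroup.center ↥Co0)) (a : ↥Co0) :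
    f a = 1 := by
  haveI := hqs.1
  have hle : commutator ↥L ≤ (f.comp e.toMonoidHom).ker := by
    rw [commutator_def, Subgroup.commutator_le]
    intro x _ y _
    rw [MonoidHom.mem_ker, map_commutatorElement, commutatorElement_eq_one_iff_mul_comm]
    exact Subtype.ext (Subgroup.mem_center_iff.1 ((f.comp e.toMonoidHom) y).2 ((f.comp e.toMonoidHom) x).1)
  rw [Group.IsPerfect.commutator_eq_top] at hle
  have h := hle (Subgroup.mem_top (e.symm a))
  rw [MonoidHom.mem_ker, MonoidHom.comp_apply] at h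
  exact (congrArg f (e.apply_symm_apply a).symm).trans h

/-- an element normalizing the component is the product of a centralizing and a component element -/
theorem exists_decomp (hqs : Cfsg.IsQuasisimple L) {g : G} (hn : g ∈ Subgroup.normalizer (L : Set G)) :
    ∃ k ∈ Subgroup.centralizer (L : Set G), ∃ a, g = k * emb e a := by
  let φ : MulAut ↥L :=
    { toFun := fun x => ⟨g * x * g⁻¹, (Subgroup.mem_normalizer_iff.1 hn x).1 x.2⟩
      invFun := fun x => ⟨g⁻¹ * x * g, (Subgroup.mem_normalizer_iff''.1 hn x).1 x.2⟩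
      left_inv := fun x => Subtype.ext (by simp [mul_assoc])
      right_inv := fun x => Subtype.ext (by simp [mul_assoc])
      map_mul' := fun x y => Subtype.ext (by simp [mul_assoc]) }
  let ψ : MulAut ↥Co0 := e.symm.trans (φ.trans e)
  let π := QuotientGroup.mk' (Subgroup.center ↥Co0)
  have hψc : (Subgroup.center ↥Co0).map ψ.toMonoidHom = Subgroup.center ↥Co0 :=
    Subgroup.characteristic_iff_map_eq.1 inferInstance ψ
  let ψq : MulAut Cfsg.Spor.Co1 := QuotientGroup.congr _ _ ψ hψc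
  have hall : ψq ∈ Cfsg.Inn Cfsg.Spor.Co1 := by
    have hc := Cfsg.Agent.S2069.result
    have hs : Subsingleton (Cfsg.Out Cfsg.Spor.Co1) := (Nat.card_eq_one_iff_unique.1 hc).1
    exact (QuotientGroup.eq_one_iff _).1 (Subsingleton.elim _ _)
  obtain ⟨b, hb⟩ := MonoidHom.mem_range.1 hall
  obtain ⟨a, rfl⟩ := QuotientGroup.mk'_surjective _ b
  have hψa : ∀ x, ψ x * (a * x * a⁻¹)⁻¹ ∈ Subgroup.center ↥Co0 := by
    intro x
    refine (QuotientGroup.eq_one_iff _).1 ?_
    show π (ψ x * (a * x * a⁻¹)⁻¹) = 1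
    rw [map_mul, map_inv, mul_inv_eq_one, map_mul, map_mul, map_inv]
    have h1 : ψq (π x) = π (ψ x) := rfl
    rw [← h1, ← hb]
    rfl
  let f : ↥Co0 →* ↥(Subgroup.center ↥Co0) := MonoidHom.mk' (fun x => ⟨_, hψa x⟩) fun x y => Subtype.ext (by
    show ψ (x * y) * (a * (x * y) * a⁻¹)⁻¹ = _ * _
    have hc := Subgroup.mem_center_iff.1 (hψa y) (a * x * a⁻¹)⁻¹
    rw [mul_assoc (ψ x), hc, map_mul]
    group)
  refine ⟨g * (emb e a)⁻¹, ?_, a, by rw [inv_mul_cancel_right]⟩
  rw [Subgroup.mem_centralizer_iff]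
  intro y hy
  obtain ⟨x, rfl⟩ := exists_emb e hy
  have h1 : ψ x = a * x * a⁻¹ := mul_inv_eq_one.1 (congrArg Subtype.val (center_hom_trivial e hqs f x))
  have h2 : g * emb e x * g⁻¹ = emb e (ψ x) := by simp [emb, ψ, φ]
  rw [h1, map_mul, map_mul, map_inv] at h2
  calc emb e x * (g * (emb e a)⁻¹)
      = g * (g⁻¹ * emb e x * g) * (emb e a)⁻¹ := by group
    _ = g * ((emb e a)⁻¹ * emb e x * emb e a) * (emb e a)⁻¹ := by
      congr 2
      have h3 : g * emb e (a⁻¹ * x * a) * g⁻¹ = emb e x := by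
        have h1' : ψ (a⁻¹ * x * a) = a * (a⁻¹ * x * a) * a⁻¹ :=
          mul_inv_eq_one.1 (congrArg Subtype.val (center_hom_trivial e hqs f (a⁻¹ * x * a)))
        have h2' : g * emb e (a⁻¹ * x * a) * g⁻¹ = emb e (ψ (a⁻¹ * x * a)) := by simp [emb, ψ, φ]
        rw [h2', h1']
        congr 1
        group
      rw [← map_inv, ← map_mul, ← map_mul, ← h3]
      group
    _ = _ := by group

include e in
theorem normal_of_cyclic (hO : Cfsg.oddCore G = ⊥) (hA : Cfsg.IsStandardSubgroup L)
    (hR : ∀ R : Sylow 2 ↥(Subgroup.centralizer (L : Set G)),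
      IsCyclic ↥(R : Subgroup ↥(Subgroup.centralizer (L : Set G)))) : L.Normal := by
  classical
  haveI := finite_Co0
  haveI : Fact (Nat.Prime 2) := ⟨Nat.prime_two⟩
  obtain ⟨hqs, ⟨hKev, hKti⟩, -, hnorm⟩ := hA
  set K := Subgroup.centralizer (L : Set G) with hK
  set z : G := emb e negAut with hzdef
  have hz1 : z ≠ 1 := fun h => negAut_ne (emb_inj e (h.trans (map_one _).symm))
  have hzsq : z * z = 1 := by rw [hzdef, ← map_mul, negAut_sq, map_one]
  have hz2 : orderOf z = 2 := orderOf_eq_prime (by rw [pow_two, hzsq]) hz1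
  have hzL : z ∈ L := emb_mem e _
  have hcenL : ∀ c ∈ Subgroup.center ↥Co0, emb e c ∈ K := by
    intro c hc
    rw [hK, Subgroup.mem_centralizer_iff]
    intro x hx
    obtain ⟨a, rfl⟩ := exists_emb e hx
    rw [← map_mul, ← map_mul, Subgroup.mem_center_iff.1 hc a]
  have hzK : z ∈ K := hcenL _ negAut_mem
  have hKcomm : ∀ k ∈ K, ∀ a, emb e a * k = k * emb e a := fun k hk a =>
    Subgroup.mem_centralizer_iff.1 hk _ (emb_mem e a)
  have hzuniq : ∀ x ∈ K, x * x = 1 → x ≠ 1 → x = z := by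
    intro x hx hxx hx1
    have hcm : x * z = z * x := (hKcomm x hx negAut).symm
    obtain ⟨V, hVdef⟩ : ∃ V : Subgroup ↥K, V = Subgroup.closure {(⟨x, hx⟩ : ↥K), ⟨z, hzK⟩} := ⟨_, rfl⟩
    have hV : ∀ v ∈ V, v * v = 1 ∧ (v : G) * x = x * v ∧ (v : G) * z = z * v := by
      intro v hv
      rw [hVdef] at hv
      refine Subgroup.closure_induction (G := ↥K)
        (p := fun (v : ↥K) _ => v * v = 1 ∧ (v : G) * x = x * v ∧ (v : G) * z = z * v)
        ?_ ⟨one_mul 1, by simp, by simp⟩ ?_ ?_ hv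
      · rintro v (rfl | rfl)
        · exact ⟨Subtype.ext hxx, rfl, hcm⟩
        · exact ⟨Subtype.ext hzsq, hcm.symm, rfl⟩
      · rintro a b ha hb ⟨a1, a2, a3⟩ ⟨b1, b2, b3⟩
        have hab : a * b = b * a := by
          refine Subgroup.closure_induction (p := fun b _ => a * b = b * a) ?_ (by simp) ?_ ?_ hb
          · rintro v (rfl | rfl)
            exacts [Subtype.ext a2, Subtype.ext a3]
          · intro p q _ _ hp hq; rw [← mul_assoc, hp, mul_assoc, hq, mul_assoc]
          · intro p _ hp; exact (Commute.inv_right hp)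
        refine ⟨by rw [mul_assoc, ← mul_assoc b, ← hab, mul_assoc a b b, b1, mul_one, a1], ?_, ?_⟩
        · rw [Subgroup.coe_mul, mul_assoc, b2, ← mul_assoc, a2, mul_assoc]
        · rw [Subgroup.coe_mul, mul_assoc, b3, ← mul_assoc, a3, mul_assoc]
      · rintro a - ⟨a1, a2, a3⟩
        rw [inv_eq_of_mul_eq_one_right a1]
        exact ⟨a1, a2, a3⟩
    have hVp : IsPGroup 2 V := fun v => ⟨1, Subtype.ext (by
      rw [pow_one, pow_two, Subgroup.coe_mul, (hV v.1 v.2).1]; rfl)⟩
    obtain ⟨R, hR'⟩ := hVp.exists_le_sylow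
    haveI := hR R
    haveI := Fintype.ofFinite ↥(R : Subgroup ↥K)
    by_contra hne
    have hxR : (⟨x, hx⟩ : ↥K) ∈ (R : Subgroup ↥K) := hR' (hVdef ▸ Subgroup.subset_closure (Or.inl rfl))
    have hzR : (⟨z, hzK⟩ : ↥K) ∈ (R : Subgroup ↥K) := hR' (hVdef ▸ Subgroup.subset_closure (Or.inr rfl))
    have hle := IsCyclic.card_pow_eq_one_le (α := ↥(R : Subgroup ↥K)) (n := 2) (by norm_num)
    have hsub : ({1, ⟨_, hxR⟩, ⟨_, hzR⟩} : Finset ↥(R : Subgroup ↥K)) ⊆
        Finset.univ.filter fun a => a ^ 2 = 1 := by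
      intro a ha
      simp only [Finset.mem_insert, Finset.mem_singleton] at ha
      refine Finset.mem_filter.2 ⟨Finset.mem_univ _, ?_⟩
      rcases ha with rfl | rfl | rfl
      · exact one_pow 2
      · exact Subtype.ext (Subtype.ext (by simpa [pow_two] using hxx))
      · exact Subtype.ext (Subtype.ext (by simpa [pow_two] using hzsq))
    have hc3 : ({1, ⟨_, hxR⟩, ⟨_, hzR⟩} : Finset ↥(R : Subgroup ↥K)).card = 3 := by
      rw [Finset.card_eq_three]
      refine ⟨1, _, _, ?_, ?_, ?_, rfl⟩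
      · exact fun h => hx1 (congrArg (fun a : ↥(R : Subgroup ↥K) => ((a : ↥K) : G)) h).symm
      · exact fun h => hz1 (congrArg (fun a : ↥(R : Subgroup ↥K) => ((a : ↥K) : G)) h).symm
      · exact fun h => hne (congrArg (fun a : ↥(R : Subgroup ↥K) => ((a : ↥K) : G)) h)
    have := (Finset.card_le_card hsub).trans hle
    omega
  have hMN : ∀ g, g * z = z * g → g ∈ Subgroup.normalizer (L : Set G) := by
    intro g hg
    rw [hnorm]
    by_contra hgn
    have hodd := hKti g hgn
    have hmem : z ∈ K ⊓ K.map (MulAut.conj g).toMonoidHom :=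
      ⟨hzK, z, hzK, by simp [MulAut.conj_apply, hg]⟩
    have : orderOf (⟨z, hmem⟩ : ↥(K ⊓ K.map (MulAut.conj g).toMonoidHom)) = 2 := by
      rw [← Subgroup.orderOf_coe]; exact hz2
    have hd := orderOf_dvd_natCard (⟨z, hmem⟩ : ↥(K ⊓ K.map (MulAut.conj g).toMonoidHom))
    rw [this] at hd
    exact Nat.not_even_iff_odd.2 hodd (even_iff_two_dvd.2 hd)
  have hNM : ∀ g ∈ Subgroup.normalizer (L : Set G), g * z * g⁻¹ = z := by
    intro g hg
    have hin : g * z * g⁻¹ ∈ L := (Subgroup.mem_normalizer_iff.1 hg z).1 hzL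
    refine hzuniq _ ?_ (by rw [show g * z * g⁻¹ * (g * z * g⁻¹) = g * (z * z) * g⁻¹ by group, hzsq]; group)
      fun h => hz1 (by rwa [mul_inv_eq_one, mul_eq_left] at h)
    rw [hK, Subgroup.mem_centralizer_iff]
    intro x hx
    have hx' : g⁻¹ * x * g ∈ L := (Subgroup.mem_normalizer_iff''.1 hg x).1 hx
    have := Subgroup.mem_centralizer_iff.1 hzK _ hx'
    calc x * (g * z * g⁻¹) = g * ((g⁻¹ * x * g) * z) * g⁻¹ := by group
      _ = g * (z * (g⁻¹ * x * g)) * g⁻¹ := by rw [this]
      _ = _ := by group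
  -- every element of the centralizer of `z` is a product
  have hdec : ∀ g, g * z = z * g → ∃ k ∈ K, ∃ a, g = k * emb e a := fun g hg =>
    exists_decomp e hqs (hMN g hg)
  have hdec' : ∀ g : G, g * z = z * g → ∃ k, (∀ x, k * emb e x = emb e x * k) ∧ ∃ a, g = k * emb e a :=
    fun g hg => by
      obtain ⟨k, hk, a, ha⟩ := hdec g hg
      exact ⟨k, fun x => (hKcomm k hk x).symm, a, ha⟩
  have hcz : ∀ a, emb e a * z = z * emb e a := fun a => by
    rw [hzdef, ← map_mul, ← map_mul, negAut_central]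
  have hKz : ∀ k ∈ K, k * z = z * k := fun k hk => (hKcomm k hk negAut).symm
  have hcenK : ∀ u : ↥Co0, emb e u ∈ K → u ∈ Subgroup.center ↥Co0 := by
    intro u hu
    refine Subgroup.mem_center_iff.2 fun a => emb_inj e ?_
    rw [map_mul, map_mul]
    exact hKcomm _ hu a
  have hconjsq : ∀ g, (g * z * g⁻¹) * (g * z * g⁻¹) = 1 := fun g => by
    rw [show g * z * g⁻¹ * (g * z * g⁻¹) = g * (z * z) * g⁻¹ by group, hzsq]; group
  have hconj1 : ∀ g, g * z * g⁻¹ ≠ 1 := fun g h => hz1 (conj_eq_one_iff.1 h)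
  -- the central involution is a commutator in both centralizers
  have step1 : ∀ g, (g * z * g⁻¹) * z = z * (g * z * g⁻¹) → g * z * g⁻¹ ≠ z →
      ∃ p q, p * z = z * p ∧ q * z = z * q ∧ p * (g * z * g⁻¹) = (g * z * g⁻¹) * p ∧
        q * (g * z * g⁻¹) = (g * z * g⁻¹) * q ∧ p * q * p⁻¹ * q⁻¹ = z := by
    intro g hg hne
    set w := g * z * g⁻¹ with hw
    obtain ⟨k, hk, u, hu⟩ := hdec w hg
    have huu : u * u ∈ Subgroup.center ↥Co0 := by
      refine hcenK _ ?_
      have h1 : (k * k) * emb e (u * u) = 1 := by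
        rw [← hconjsq g, ← hw, hu, map_mul]
        calc k * k * (emb e u * emb e u) = k * (k * emb e u) * emb e u := by group
          _ = k * (emb e u * k) * emb e u := by rw [hKcomm k hk u]
          _ = _ := by group
      rw [eq_inv_of_mul_eq_one_right h1]
      exact inv_mem (mul_mem hk hk)
    have hun : u ∉ Subgroup.center ↥Co0 := fun h => hne (hzuniq _ (by rw [hu]; exact mul_mem hk (hcenL _ h))
      (hconjsq g) (hconj1 g))
    obtain ⟨p, q, hp, hq, hpq⟩ := negComm_of_sq huu hun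
    have hcw : ∀ p, p * u = u * p → emb e p * w = w * emb e p := fun p hp => by
      rw [hu, ← mul_assoc, hKcomm k hk p, mul_assoc, ← map_mul, hp, map_mul, mul_assoc]
    refine ⟨emb e p, emb e q, hcz p, hcz q, hcw p hp, hcw q hq, ?_⟩
    rw [← map_mul, hpq, map_mul, map_mul, ← hzdef]
    group
  -- so every conjugate commuting with it lies in the component
  have step2 : ∀ g, (g * z * g⁻¹) * z = z * (g * z * g⁻¹) → g * z * g⁻¹ ≠ z →
      ∃ l, emb e l = g * z * g⁻¹ := by
    intro g hg hne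
    set w := g * z * g⁻¹ with hw
    have hg' : (g⁻¹ * z * g⁻¹⁻¹) * z = z * (g⁻¹ * z * g⁻¹⁻¹) := by
      calc (g⁻¹ * z * g⁻¹⁻¹) * z = g⁻¹ * (z * w) * g := by rw [hw]; group
        _ = g⁻¹ * (w * z) * g := by rw [hg]
        _ = _ := by rw [hw]; group
    have hne' : g⁻¹ * z * g⁻¹⁻¹ ≠ z := fun h => hne (by rw [hw]; nth_rewrite 1 [← h]; group)
    obtain ⟨p, q, hpz, hqz, hpw, hqw, hpq⟩ := step1 g⁻¹ hg' hne'
    have hmv : ∀ p, p * (g⁻¹ * z * g⁻¹⁻¹) = (g⁻¹ * z * g⁻¹⁻¹) * p → (g * p * g⁻¹) * z = z * (g * p * g⁻¹) := by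
      intro p h
      calc (g * p * g⁻¹) * z = g * (p * (g⁻¹ * z * g⁻¹⁻¹)) * g⁻¹ := by group
        _ = g * ((g⁻¹ * z * g⁻¹⁻¹) * p) * g⁻¹ := by rw [h]
        _ = _ := by group
    obtain ⟨k1, hk1, a1, ha1⟩ := hdec _ (hmv p hpw)
    obtain ⟨k2, hk2, a2, ha2⟩ := hdec _ (hmv q hqw)
    have hwe : w = k1 * k2 * k1⁻¹ * k2⁻¹ * emb e (a1 * a2 * a1⁻¹ * a2⁻¹) := by
      have h1 : w = (g * p * g⁻¹) * (g * q * g⁻¹) * (g * p * g⁻¹)⁻¹ * (g * q * g⁻¹)⁻¹ := by
        rw [hw, ← hpq]; group
      have c12 : emb e a1 * k2 = k2 * emb e a1 := hKcomm k2 hk2 a1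
      have c1 : ∀ a, emb e a * k1⁻¹ = k1⁻¹ * emb e a := fun a => hKcomm _ (inv_mem hk1) a
      have c2 : ∀ a, emb e a * k2⁻¹ = k2⁻¹ * emb e a := fun a => hKcomm _ (inv_mem hk2) a
      rw [h1, ha1, ha2]
      calc k1 * emb e a1 * (k2 * emb e a2) * (k1 * emb e a1)⁻¹ * (k2 * emb e a2)⁻¹
          = k1 * (emb e a1 * k2) * (emb e a2 * (emb e a1)⁻¹) * k1⁻¹ * (emb e a2)⁻¹ * k2⁻¹ := by group
        _ = k1 * k2 * (emb e (a1 * (a2 * a1⁻¹)) * k1⁻¹) * (emb e a2)⁻¹ * k2⁻¹ := by
          rw [c12, map_mul, map_mul, map_inv]; group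
        _ = k1 * k2 * k1⁻¹ * (emb e (a1 * (a2 * a1⁻¹) * a2⁻¹) * k2⁻¹) := by
          rw [c1]; simp only [map_mul, map_inv]; group
        _ = _ := by rw [c2]; simp only [map_mul, map_inv]; group
    obtain ⟨N, -, hodd, hN⟩ := exists_odd_normal (default : Sylow 2 ↥K) (hR default)
    set c : ↥K := ⟨k1, hk1⟩ * ⟨k2, hk2⟩ * ⟨k1, hk1⟩⁻¹ * ⟨k2, hk2⟩⁻¹ with hc
    have hcm : (c : G) ^ Nat.card N = 1 := by
      have h0 : ∀ y : ↥N, y ^ Nat.card N = 1 := fun y => pow_card_eq_one'
      have h1 : c ^ Nat.card N = 1 := by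
        have h2 := congrArg Subtype.val (h0 ⟨c, hN ⟨k1, hk1⟩ ⟨k2, hk2⟩⟩)
        rwa [Subgroup.coe_pow, Subgroup.coe_one] at h2
      have h3 := congrArg Subtype.val h1
      rwa [Subgroup.coe_pow, Subgroup.coe_one] at h3
    have hcomm : Commute (c : G) (emb e (a1 * a2 * a1⁻¹ * a2⁻¹)) := (hKcomm _ c.2 _).symm
    have hwc : w = (c : G) * emb e (a1 * a2 * a1⁻¹ * a2⁻¹) := hwe
    refine ⟨(a1 * a2 * a1⁻¹ * a2⁻¹) ^ Nat.card N, ?_⟩
    obtain ⟨m, hm⟩ := hodd
    have hwm : w ^ Nat.card N = w := by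
      rw [hm, pow_succ, pow_mul, pow_two, show w * w = 1 from hconjsq g, one_pow, one_mul]
    rw [← hwm, hwc, hcomm.mul_pow, hcm, one_mul, map_pow]
  have hiso : Cfsg.IsIsolatedInvolution z := by
    refine ⟨hz2, fun g0 hg0 => ?_⟩
    by_contra hne
    obtain ⟨l, hl⟩ := step2 g0 hg0.eq.symm hne
    have hll : l * l = 1 := emb_inj e (by rw [map_mul, map_one, hl, hconjsq])
    have hln : l ∉ Subgroup.center ↥Co0 := fun h => hne (hzuniq _ (hl ▸ hcenL _ h) (hconjsq g0) (hconj1 g0))
    obtain ⟨c, x, hcx⟩ := exists_conj_sg hll hln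
    set g := emb e c * g0 with hgdef
    have hgx : emb e (sg x) = g * z * g⁻¹ := by
      rw [← hcx, map_mul, map_mul, map_inv, hl, hgdef]; group
    have hxom : x ≠ om := fun h => hne (by
      have e1 : c * l * c⁻¹ = negAut := by rw [hcx, h, sg_om]
      have e2 : l = negAut := by
        calc l = c⁻¹ * (c * l * c⁻¹) * c := by group
          _ = c⁻¹ * negAut * c := by rw [e1]
          _ = negAut := by rw [mul_assoc, ← negAut_central, inv_mul_cancel_left]
      rw [← hl, e2])
    have hx0 : x ≠ 0 := fun h => hconj1 g (by rw [← hgx, h, sg_zero, map_one])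
    -- every word of that weight gives a conjugate
    obtain ⟨-, -, -, -, -, -, hwc, -⟩ := rep_facts
    let s : ℕ → Prop := fun m => ∀ hm : m < 4096, IsConj z (emb e (sg ⟨m, hm⟩))
    have hs : ∀ k, k < gensC.length → ∀ m, m < 4096 → (s (comb (gensC.getD k []) m) ↔ s m) := by
      intro k hk m hm
      rw [gens_bounds.2.2.1] at hk
      obtain ⟨u, hu⟩ := gen_conj ⟨k, hk⟩
      obtain ⟨y, hy, hyc⟩ := hu ⟨m, hm⟩
      have hcj : IsConj (emb e (sg ⟨m, hm⟩)) (emb e (sg y)) :=
        isConj_iff.2 ⟨emb e u, by rw [← hyc, map_mul, map_mul, map_inv]⟩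
      simp only at hy
      constructor
      · intro h hm'
        refine IsConj.trans ?_ hcj.symm
        have := h (hy ▸ y.2)
        simp only [← hy] at this
        exact this
      · intro h hm'
        have : (⟨comb (gensC.getD k []) m, hm'⟩ : Fin 4096) = y := Fin.ext hy.symm
        rw [this]
        exact (h hm).trans hcj
    obtain ⟨w, hw, hwx, htree⟩ : ∃ j : Fin 3, ∃ es, (wmask (4 * (j.1 + 2))).testBit x.1 = true ∧
        treeOK gensC (rep (4 * (j.1 + 2))) es (wmask (4 * (j.1 + 2))) = true := by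
      rcases hwc x with h | h | h | h | h
      · exact absurd (Fin.ext h) hx0
      · exact absurd (Fin.ext h) hxom
      · exact ⟨0, _, h, weight_trees.1⟩
      · exact ⟨1, _, h, weight_trees.2.1⟩
      · exact ⟨2, _, h, weight_trees.2.2⟩
    have hxs : s x.1 := fun _ => isConj_iff.2 ⟨g, hgx.symm⟩
    have hall : ∀ y : Fin 4096, W y = 4 * (w.1 + 2) → IsConj z (emb e (sg y)) := by
      intro y hy
      have hy' : (wmask (4 * (w.1 + 2))).testBit y.1 = true := by
        rw [wmask, testBit_maskOf _ _ y.2, beq_iff_eq]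
        exact hy
      exact ((tree_spec htree s hs _ hy').2 ((tree_spec htree s hs _ hwx).1 hxs)) y.2
    -- the conjugate of the sign changes lies in the component
    have hQ : ∀ y, g⁻¹ * emb e (sg y) * g ∈ L := by
      have hgood : ∀ y, IsConj z (emb e (sg y)) → g⁻¹ * emb e (sg y) * g ∈ L := by
        intro y hy
        obtain ⟨h, hh⟩ := isConj_iff.1 hy
        have he : (g⁻¹ * h) * z * (g⁻¹ * h)⁻¹ = g⁻¹ * emb e (sg y) * g := by rw [← hh]; group
        rw [← he]
        by_cases hz' : (g⁻¹ * h) * z * (g⁻¹ * h)⁻¹ = z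
        · rw [hz']; exact hzL
        · obtain ⟨l', hl'⟩ := step2 (g⁻¹ * h) (by
            rw [he]
            have hxy : emb e (sg y) * emb e (sg x) = emb e (sg x) * emb e (sg y) := by
              rw [← map_mul, ← map_mul, sg_mul, sg_mul,
                show xr y x = xr x y from Fin.ext (Nat.xor_comm _ _)]
            calc g⁻¹ * emb e (sg y) * g * z = g⁻¹ * (emb e (sg y) * (g * z * g⁻¹)) * g := by group
              _ = g⁻¹ * ((g * z * g⁻¹) * emb e (sg y)) * g := by rw [← hgx, hxy]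
              _ = _ := by group) hz'
          rw [← hl']
          exact emb_mem e l'
      intro y
      refine fin_induction (P := fun y => g⁻¹ * emb e (sg y) * g ∈ L) ?_ ?_ ?_ y
      · rw [sg_zero, map_one, mul_one, inv_mul_cancel]; exact one_mem _
      · intro a b ha hb
        rw [← sg_mul, map_mul]
        convert mul_mem ha hb using 1
        group
      · intro i
        obtain ⟨h1, h2⟩ := spans_ok w i
        rw [List.all_eq_true] at h1
        have key : ∀ l : List ℕ, (∀ v ∈ l, decide (v < 4096) = true ∧ pop 24 (comb rows v) = 4 * (w.1 + 2)) →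
            ∀ hlt : l.foldr (fun v a => v ^^^ a) 0 < 4096,
            g⁻¹ * emb e (sg ⟨l.foldr (fun v a => v ^^^ a) 0, hlt⟩) * g ∈ L := by
          intro l
          induction l with
          | nil =>
            intro _ _
            show g⁻¹ * emb e (sg 0) * g ∈ L
            rw [sg_zero, map_one, mul_one, inv_mul_cancel]; exact one_mem _
          | cons v l ih =>
            intro hv hlt
            obtain ⟨hv1, hv2⟩ := hv v List.mem_cons_self
            have hv1' : v < 4096 := of_decide_eq_true hv1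
            have hlt' : l.foldr (fun v a => v ^^^ a) 0 < 4096 := by
              have := Nat.xor_lt_two_pow (n := 12) hv1' hlt
              rwa [List.foldr_cons, ← Nat.xor_assoc, Nat.xor_self, Nat.zero_xor] at this
            have ha := hgood ⟨v, hv1'⟩ (hall _ hv2)
            have hb := ih (fun u hu => hv u (List.mem_cons_of_mem _ hu)) hlt'
            rw [show (⟨_, hlt⟩ : Fin 4096) = xr ⟨v, hv1'⟩ ⟨_, hlt'⟩ from Fin.ext rfl, ← sg_mul, map_mul]
            convert mul_mem ha hb using 1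
            group
        have := key _ (fun v hv => by
          have := h1 v hv
          simpa [Bool.and_eq_true, beq_iff_eq] using this) (by
          rw [h2]; exact Nat.pow_lt_pow_right (by norm_num) i.2)
        simp only [h2] at this
        exact this
    let φ : ↥Co0 →* G := (MulAut.conj g⁻¹).toMonoidHom.comp (emb e)
    have hφi : Function.Injective φ := (MulAut.conj g⁻¹).injective.comp (emb_inj e)
    have hφ : ∀ y, φ (sg y) = g⁻¹ * emb e (sg y) * g := fun y => by simp [φ]
    let F : Subgroup ↥Co0 := (signGroup.map φ).comap (emb e)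
    have hmap : F.map (emb e) = signGroup.map φ := by
      refine Subgroup.map_comap_eq_self ?_
      rintro _ ⟨f, hf, rfl⟩
      obtain ⟨y, rfl⟩ := mem_sign_iff.1 hf
      rw [hφ]
      exact exists_emb e (hQ y)
    have hFc : Nat.card F = 4096 := by
      rw [Nat.card_congr (F.equivMapOfInjective _ (emb_inj e)).toEquiv, hmap,
        ← Nat.card_congr (signGroup.equivMapOfInjective _ hφi).toEquiv, natCard_sign]
    have hFsq : ∀ f ∈ F, f * f = 1 := by
      intro f hf
      obtain ⟨s', hs', hsf⟩ := hf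
      obtain ⟨y, rfl⟩ := mem_sign_iff.1 hs'
      exact emb_inj e (by rw [map_mul, ← hsf, ← map_mul, sg_sq, map_one, map_one])
    obtain ⟨l', hl'⟩ := exists_conj_sign hFc hFsq
    have hh : emb e l' * g⁻¹ ∈ signNorm e := by
      intro y
      obtain ⟨f, hf⟩ := exists_emb e (hQ y)
      obtain ⟨y', hy'⟩ := mem_sign_iff.1 (hl' f ⟨sg y, mem_sign_iff.2 ⟨y, rfl⟩, (hφ y).trans hf.symm⟩)
      exact ⟨y', by rw [← hy', map_mul, map_mul, map_inv, hf]; group⟩
    have hfix := conj_eq_of_signNorm e hdec' hh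
    apply hxom
    have e1 : g⁻¹ * z * g = z := by
      calc g⁻¹ * z * g = (emb e l')⁻¹ * ((emb e l' * g⁻¹) * z * (emb e l' * g⁻¹)⁻¹) * emb e l' := by group
        _ = (emb e l')⁻¹ * z * emb e l' := by rw [hfix]
        _ = z := by rw [mul_assoc, ← hcz, inv_mul_cancel_left]
    refine sg_inj (emb_inj e ?_)
    rw [hgx, sg_om]
    show g * z * g⁻¹ = z
    nth_rewrite 1 [← e1]
    group
  have hcommz : ∀ g, g * z = z * g := fun g =>
    (ZStar.commute_of_commutatorsInCore hO (ZStar.commutatorsInCore_of_isolated hiso) g).eq.symm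
  exact Subgroup.normalizer_eq_top_iff.1 (eq_top_iff.2 fun g _ => hMN g (hcommz g))

end CfsgLib.CoZeroStd
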