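import Cfsg.Agent.Lib.CoZeroStd.CodeBasic
import Cfsg.Agent.Lib.Leech.Simple
import Cfsg.Agent.Lib.Golay.SylowTwoCert
import Cfsg.Agent.Lib.Leech.CoOneInvol.Core

/-!
Sign changes and signed permutations of the lattice in coordinates; conjugate sign changes have
supports of the same size.
-/

set_option autoImplicit false
set_option maxRecDepth 100000

namespace CfsgLib.CoZeroStd

open Cfsg CfsgLib.Golay CfsgLib.Leech
open scoped Pointwise

attribute [local irreducible] dL bL key keyL coord packB linL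

/-- the word of a coordinate vector -/
def cw (x : Fin 4096) : ℕ := comb rows x.1

theorem cw_facts : ∀ x : Fin 4096, cw x < 2 ^ 24 ∧ inC (cw x) = true ∧ cw x % 4096 = x.1 := by
  decide +kernel

theorem cw_mem (x : Fin 4096) : dec (cw x) ∈ CS :=
  (dec_mem_supports_iff (cw_facts x).1).2 (cw_facts x).2.1

theorem cw_inj {x y : Fin 4096} (h : cw x = cw y) : x = y :=
  Fin.ext (by rw [← (cw_facts x).2.2, h, (cw_facts y).2.2])

theorem cw_xr (x y : Fin 4096) : cw (xr x y) = cw x ^^^ cw y := comb_xor rows x.1 y.1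

theorem comb_mod : ∀ (l : List ℕ) (m : ℕ), comb l (m % 2 ^ l.length) = comb l m
  | [], m => rfl
  | r :: rs, m => by
    simp only [comb, List.length_cons]
    have e1 : m % 2 ^ (rs.length + 1) % 2 = m % 2 := Nat.mod_mod_of_dvd m (Dvd.intro_left _ (pow_succ 2 rs.length).symm)
    have e2 : m % 2 ^ (rs.length + 1) / 2 = m / 2 % 2 ^ rs.length := by
      rw [pow_succ', Nat.mod_mul_right_div_self]
    simp only [e1, e2, comb_mod rs]

theorem exists_cw {m : ℕ} (h : inC m = true) : ∃ x : Fin 4096, cw x = m := by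
  refine ⟨⟨m % 4096, Nat.mod_lt _ (by norm_num)⟩, ?_⟩
  rw [inC, beq_iff_eq] at h
  have e := comb_mod rows m
  rw [show rows.length = 12 from rfl] at e
  rw [cw]
  exact e.trans h

theorem exists_cw_set {d : Finset GolayPt} (hd : d ∈ CS) : ∃ x : Fin 4096, dec (cw x) = d := by
  obtain ⟨m, -, hc, rfl⟩ := mem_supports.1 hd
  obtain ⟨x, hx⟩ := exists_cw hc
  exact ⟨x, by rw [hx]⟩

theorem colF_lin_aux (x y i : ℕ) :
    (if (comb rows (x ^^^ y)).testBit i then 1 else 0) =
      (if (comb rows x).testBit i then 1 else 0) ^^^ (if (comb rows y).testBit i then 1 else 0) := by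
  rw [comb_xor, Nat.testBit_xor]
  cases (comb rows x).testBit i <;> cases (comb rows y).testBit i <;> rfl

/-- the sign change of a word -/
noncomputable def sg (x : Fin 4096) : ↥Co0 := mono (one_mem M24) (cw_mem x)

theorem mem_sign_iff {g : ↥Co0} : g ∈ signGroup ↔ ∃ x, g = sg x := by
  constructor
  · rintro ⟨d, hd, rfl⟩
    obtain ⟨x, hx⟩ := exists_cw_set hd
    exact ⟨x, mono_set_congr _ _ _ hx.symm⟩
  · rintro ⟨x, rfl⟩
    exact ⟨_, cw_mem x, rfl⟩

theorem sg_mul (x y : Fin 4096) : sg x * sg y = sg (xr x y) := by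
  rw [sg, sg, sign_mul]
  exact mono_set_congr _ _ _ (by rw [cw_xr, dec_xor])

theorem sg_inj {x y : Fin 4096} (h : sg x = sg y) : x = y :=
  cw_inj (dec_inj (cw_facts x).1 (cw_facts y).1 (mono_inj h).2)

theorem sg_zero : sg 0 = 1 := by
  rw [sg, one_eq_mono]
  exact mono_set_congr _ _ _ (by decide +kernel)

theorem sg_om : sg om = negAut := mono_set_congr _ _ _ (by decide +kernel)

theorem sg_sq (x : Fin 4096) : sg x * sg x = 1 := by
  rw [sg_mul, show xr x x = 0 from Fin.ext (Nat.xor_self _), sg_zero]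

/-- a valid signed permutation -/
def okM (u : ℕ × ℕ) : Bool := inM24 u.1 && inC u.2 && decide (u.2 < 2 ^ 24)

theorem okM_spec {u : ℕ × ℕ} (h : okM u = true) :
    validP u.1 = true ∧ toPerm u.1 ∈ M24 ∧ dec u.2 ∈ CS ∧ u.2 < 2 ^ 24 := by
  simp only [okM, Bool.and_eq_true, decide_eq_true_eq] at h
  have hv : validP u.1 = true := by
    have := h.1.1; simp only [inM24, Bool.and_eq_true] at this; exact this.1
  exact ⟨hv, toPerm_mem_M24 h.1.1, (dec_mem_supports_iff h.2).2 h.1.2, h.2⟩

/-- the signed permutation of a pair of numbers -/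
noncomputable def mo (u : ℕ × ℕ) : ↥Co0 :=
  if h : okM u = true then mono (okM_spec h).2.1 (okM_spec h).2.2.1 else 1

/-- the test for a product -/
def mulOK (u v w : ℕ × ℕ) : Bool :=
  okM u && okM v && okM w && SylowTwo.eqP w.1 (mulP v.1 u.1) && mimg u.1 (w.2 ^^^ u.2) == v.2

theorem mo_mul {u v w : ℕ × ℕ} (h : mulOK u v w = true) : mo u * mo v = mo w := by
  simp only [mulOK, Bool.and_eq_true, beq_iff_eq] at h
  obtain ⟨⟨⟨⟨hu, hv⟩, hw⟩, he⟩, hm⟩ := h
  rw [mo, mo, mo, dif_pos hu, dif_pos hv, dif_pos hw]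
  refine aut_ext fun t => Subtype.ext (funext fun i => ?_)
  have hperm : toPerm v.1 (toPerm u.1 i) = toPerm w.1 i := by
    rw [SylowTwo.toPerm_eq_of_eqP (okM_spec hw).1 (validP_mulP (okM_spec hv).1 (okM_spec hu).1) he,
      toPerm_mulP (okM_spec hv).1 (okM_spec hu).1, Equiv.Perm.mul_apply]
  have hmem : toPerm u.1 i ∈ dec v.2 ↔ ((i ∈ dec w.2) ↔ ¬ (i ∈ dec u.2)) := by
    rw [← hm, mem_dec_mimg (okM_spec hu).1, mem_dec, Nat.testBit_xor, mem_dec, mem_dec]
    cases w.2.testBit (idx i) <;> cases u.2.testBit (idx i) <;> simp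
  rw [mul_smul, mono_apply, mono_apply, mono_apply, hperm]
  by_cases h1 : i ∈ dec u.2 <;> by_cases h2 : i ∈ dec w.2 <;> simp [h1, h2, hmem]

theorem mo_sign (x : Fin 4096) (h : okM (SylowTwo.idP, cw x) = true) :
    mo (SylowTwo.idP, cw x) = sg x := by
  rw [mo, dif_pos h, sg]
  refine aut_ext fun t => Subtype.ext (funext fun i => ?_)
  rw [mono_apply, mono_apply, SylowTwo.toPerm_idP]

/-- the test for conjugation of a sign change -/
def conjOK (u : ℕ × ℕ) (x y : Fin 4096) : Bool :=
  mulOK u (SylowTwo.idP, cw x) (u.1, cw y ^^^ u.2) && mulOK (SylowTwo.idP, cw y) u (u.1, cw y ^^^ u.2)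

theorem mo_conj {u : ℕ × ℕ} {x y : Fin 4096} (h : conjOK u x y = true) :
    mo u * sg x * (mo u)⁻¹ = sg y := by
  simp only [conjOK, Bool.and_eq_true] at h
  have hx : okM (SylowTwo.idP, cw x) = true := by
    have := h.1; simp only [mulOK, Bool.and_eq_true] at this; exact this.1.1.1.2
  have hy : okM (SylowTwo.idP, cw y) = true := by
    have := h.2; simp only [mulOK, Bool.and_eq_true] at this; exact this.1.1.1.1
  rw [← mo_sign x hx, mo_mul h.1, ← mo_mul h.2, mul_inv_cancel_right, mo_sign y hy]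

/-- the weight of a word is the size of its support -/
theorem W_eq (x : Fin 4096) : W x = (dec (cw x)).card := (card_dec_eq_pop _).symm

theorem card_le_of_conj {g : ↥Co0} {a b : Fin 4096} (h : g * sg a * g⁻¹ = sg b) :
    (dec (cw a)).card ≤ (dec (cw b)).card := by
  have hsupp : ∀ p : {p : GolayPt // p ∈ dec (cw a)}, ∀ q, q ∉ dec (cw b) →
      ((g • eightL p.1 : ↥leechLattice) : GolayPt → ℤ) q = 0 := by
    intro p q hq
    have e1 : sg a • eightL p.1 = -eightL p.1 := by
      refine Subtype.ext (funext fun i => ?_)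
      rw [sg, mono_apply, Equiv.Perm.one_apply, AddSubgroup.coe_neg, Pi.neg_apply]
      by_cases hi : i = p.1
      · subst hi; rw [if_pos p.2]
      · have : (eightL p.1 : GolayPt → ℤ) i = 0 := by simp [eightL, eight, hi]
        rw [this]; split_ifs <;> simp
    have e2 : sg b • (g • eightL p.1) = -(g • eightL p.1) := by
      rw [← mul_smul, ← h, inv_mul_cancel_right, mul_smul, e1, smul_neg']
    have e3 := congrArg (fun w : ↥leechLattice => (w : GolayPt → ℤ) q) e2
    simp only [sg, mono_apply, if_neg hq, Equiv.Perm.one_apply, AddSubgroup.coe_neg, Pi.neg_apply] at e3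
    omega
  let u : {p : GolayPt // p ∈ dec (cw a)} → ({q : GolayPt // q ∈ dec (cw b)} → ℚ) :=
    fun p q => (((g • eightL p.1 : ↥leechLattice) : GolayPt → ℤ) q.1 : ℚ)
  have hdot : ∀ p p', ∑ q, u p q * u p' q = if p = p' then 64 else 0 := by
    intro p p'
    have e : dotInt ((g • eightL p.1 : ↥leechLattice) : GolayPt → ℤ)
        ((g • eightL p'.1 : ↥leechLattice) : GolayPt → ℤ) =
        ∑ q ∈ dec (cw b), ((g • eightL p.1 : ↥leechLattice) : GolayPt → ℤ) q *
          ((g • eightL p'.1 : ↥leechLattice) : GolayPt → ℤ) q :=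
      (Finset.sum_subset (Finset.subset_univ _) fun q _ hq => by rw [hsupp p q hq, zero_mul]).symm
    rw [dotInt_smul] at e
    have hs : ∑ q, u p q * u p' q = ((∑ q ∈ dec (cw b), ((g • eightL p.1 : ↥leechLattice) : GolayPt → ℤ) q *
          ((g • eightL p'.1 : ↥leechLattice) : GolayPt → ℤ) q : ℤ) : ℚ) := by
      rw [Finset.sum_subtype (dec (cw b)) (fun _ => Iff.rfl)]
      push_cast
      rfl
    rw [hs, ← e, show (eightL p'.1 : GolayPt → ℤ) = eight p'.1 from rfl, dotInt_eight]
    by_cases hp : p = p'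
    · subst hp; rw [if_pos rfl]; simp [eightL, eight]
    · rw [if_neg hp]
      have : p'.1 ≠ p.1 := fun e => hp (Subtype.ext e.symm)
      simp [eightL, eight, this]
  have hli : LinearIndependent ℚ u := by
    rw [Fintype.linearIndependent_iff]
    intro c hc p
    have h0 : ∑ q, (∑ p', c p' • u p') q * u p q = 0 := by rw [hc]; simp
    simp only [Finset.sum_apply, Pi.smul_apply, smul_eq_mul, Finset.sum_mul, mul_assoc] at h0
    rw [Finset.sum_comm] at h0
    simp only [← Finset.mul_sum, hdot, mul_ite, mul_zero, Finset.sum_ite_eq', Finset.mem_univ, if_true] at h0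
    linarith
  have hle := hli.fintype_card_le_finrank
  rwa [Module.finrank_fintype_fun_eq_card, Fintype.card_coe, Fintype.card_coe] at hle

/-- conjugate sign changes have words of the same weight -/
theorem weight_eq_of_conj {g : ↥Co0} {a b : Fin 4096} (h : g * sg a * g⁻¹ = sg b) : W a = W b := by
  rw [W_eq, W_eq]
  refine le_antisymm (card_le_of_conj h) (card_le_of_conj (g := g⁻¹) ?_)
  rw [← h]; group

end CfsgLib.CoZeroStd
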